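import Cfsg.Agent.Helper18.Tw.P_L2

/-!
Helper18 / twisted D4 automorphisms, PIECE CR (the functional equations of an automorphism stabilising the
fundamental root subgroups).
(Proofs: helper4, ported from helper51's `Helper36/TwE6/P_Cross.lean`.)
-/

set_option autoImplicit false
set_option maxRecDepth 100000

namespace Cfsg.Agent.Helper18.Tw

open Cfsg Cfsg.Lie Cfsg.Agent.Helper18 Cfsg.Agent.Helper18.Aut Cfsg.Agent.Helper19.Twist
  Cfsg.Agent.Helper19.Poinc Cfsg.Agent.Helper19.Cox Cfsg.Agent.S1081 Cfsg.Agent.Helper6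
  Cfsg.Agent.Helper40.SL2Hom Cfsg.Agent.S1080 Cfsg.Agent.Helper18.Sub

theorem CR_pair_18 : pairing' chevD4 14 18 = -1 := by decide
theorem CR_pair_13 : pairing' chevD4 14 13 = -1 := by decide
theorem CR_pair_12 : pairing' chevD4 14 12 = -1 := by decide

/-- PIECE CR1: the cross relation `h_b(s) x_a(t) h_b(s)⁻¹ = x_a(s⁻¹ t)` for `s ∈ k₀`
(the action of `h_{p₂}(s)` on `x_{p₁}`, `x_{p₃}`, `x_{p₄}`: Cartan integers `-1`; compare `chev_L2` field `hx` in
`Helper18/Aut/ChevInst.lean`, `coe_h_xS`, or `rootEntry_hG` + `diagonalSubgroup_char`) -/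
theorem hb_conj_xa {K : Type*} [Field K] (f : K ≃+* K) (s : K) (hs : s ≠ 0) (hfs : f s = s) (t : K) :
    hG chevD4 K 14 s * xa f t * (hG chevD4 K 14 s)⁻¹ = xa f (s⁻¹ * t) := by
  have hv : ((hG chevD4 K 14 s : GL chevD4.Idx K) : Matrix chevD4.Idx chevD4.Idx K) = chevD4.hMat K 14 s :=
    hWordGL_val chevD4 memD4 14 s
  have e1 := hMat_comm_xGL chevD4 memD4 (hG chevD4 K 14 s) 14 (by decide) s hs hv 18 (by decide) t
  have e2 := hMat_comm_xGL chevD4 memD4 (hG chevD4 K 14 s) 14 (by decide) s hs hv 13 (by decide) (f t)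
  have e3 := hMat_comm_xGL chevD4 memD4 (hG chevD4 K 14 s) 14 (by decide) s hs hv 12 (by decide) (f (f t))
  rw [CR_pair_18, zpow_neg_one] at e1
  rw [CR_pair_13, zpow_neg_one] at e2
  rw [CR_pair_12, zpow_neg_one] at e3
  unfold xa
  rw [map_mul, map_mul, map_inv₀, map_inv₀, hfs, hfs]
  calc hG chevD4 K 14 s * (xGL chevD4 K 18 t * xGL chevD4 K 13 (f t) * xGL chevD4 K 12 (f (f t))) *
        (hG chevD4 K 14 s)⁻¹
      = (hG chevD4 K 14 s * xGL chevD4 K 18 t) * xGL chevD4 K 13 (f t) * xGL chevD4 K 12 (f (f t)) *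
        (hG chevD4 K 14 s)⁻¹ := by group
    _ = xGL chevD4 K 18 (s⁻¹ * t) * (hG chevD4 K 14 s * xGL chevD4 K 13 (f t)) * xGL chevD4 K 12 (f (f t)) *
        (hG chevD4 K 14 s)⁻¹ := by rw [e1]; group
    _ = xGL chevD4 K 18 (s⁻¹ * t) * xGL chevD4 K 13 (s⁻¹ * f t) *
        (hG chevD4 K 14 s * xGL chevD4 K 12 (f (f t))) * (hG chevD4 K 14 s)⁻¹ := by rw [e2]; group
    _ = xGL chevD4 K 18 (s⁻¹ * t) * xGL chevD4 K 13 (s⁻¹ * f t) * xGL chevD4 K 12 (s⁻¹ * f (f t)) := by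
        rw [e3]; group

/-- (abstract) the image of `h(t)` under an automorphism acting on a rank one system by `x(t) ↦ x(c σ t)`,
`y(t) ↦ y(c⁻¹ σ t)` -/
theorem CR_theta_h {F Γ : Type*} [Field F] [Group Γ] {x y : F → Γ} (R : Rel x y) (θ : Γ ≃* Γ) (c : Fˣ)
    (σ : F ≃+* F) (hx : ∀ t, θ (x t) = x ((c : F) * σ t)) (hy : ∀ t, θ (y t) = y (((c⁻¹ : Fˣ) : F) * σ t))
    (t : F) (ht : t ≠ 0) : θ (h x y t) = h x y (σ t) := by
  have hc : (c : F) ≠ 0 := c.ne_zero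
  have hw : ∀ u : F, u ≠ 0 → θ (w x y u) = w x y ((c : F) * σ u) := by
    intro u hu
    have hσu : σ u ≠ 0 := fun e => hu (σ.injective (e.trans (map_zero σ).symm))
    unfold w
    rw [map_mul, map_mul, hx, hy]
    congr 2
    rw [map_neg, map_inv₀, Units.val_inv_eq_inv_val]
    field_simp
  have e1 : h x y t = w x y t * (w x y 1)⁻¹ := rfl
  have hσt : σ t ≠ 0 := fun e => ht (σ.injective (e.trans (map_zero σ).symm))
  rw [e1, map_mul, map_inv, hw t ht, hw 1 one_ne_zero, map_one, mul_one,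
    ← Rel.h_mul_n (x := x) (y := y) ((c : F) * σ t), ← Rel.h_mul_n (x := x) (y := y) (c : F),
    mul_comm (c : F) (σ t), R.h_mul _ _ hσt hc]
  group

/-- the coercion of `h_b(s)` from `G¹` to the ambient group -/
theorem CR_coe_h {K : Type*} [Field K] [Fintype K] {q : ℕ} (f : K ≃+* K) (hf : ∀ t, f t = t ^ q)
    (s : k0 f) :
    ((h (xbS f hf) (ybS f hf) s : ↥(twistedD4 K q)) : GL chevD4.Idx K) =
      h (xGL chevD4 K 14) (xGL chevD4 K 9) (s : K) := by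
  unfold h w
  simp only [Subgroup.coe_mul, Subgroup.coe_inv, xbS_coe, ybS_coe]
  push_cast
  rfl

/-- PIECE CR2: the functional equations. Apply `L2Hyp.main` (with `π = id`) to `l2_a` and `l2_b`:
`θ x_a(t) = x_a(c τ t)`, `θ x_b(u) = x_b(d τ' u)` with `τ ∈ Aut K`, `τ' ∈ Aut k₀`; then `θ h_b(s) = h_b(τ' s)`
(as in the proof of `L2Hyp.main`: `h = w(s) w(1)⁻¹`, `Rel.h_mul`), and applying `θ` to CR1 (with `h_b_eq`) gives
`τ' s = τ s` by `xa_inj`. -/
theorem func_eq {K : Type*} [Field K] [Fintype K] {q : ℕ} (f : K ≃+* K) (hf : ∀ t, f t = t ^ q)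
    (θ : ↥(twistedD4 K q) ≃* ↥(twistedD4 K q))
    (hXa : ∀ t, ∃ t', θ (xaS f hf t) = xaS f hf t') (hYa : ∀ t, ∃ t', θ (yaS f hf t) = yaS f hf t')
    (hXb : ∀ u, ∃ u', θ (xbS f hf u) = xbS f hf u') (hYb : ∀ u, ∃ u', θ (ybS f hf u) = ybS f hf u') :
    ∃ (τ : K ≃+* K) (c d : K), c ≠ 0 ∧ d ≠ 0 ∧ f d = d ∧
      (∀ t, θ (xaS f hf t) = xaS f hf (c * τ t)) ∧ (∀ t, θ (yaS f hf t) = yaS f hf (c⁻¹ * τ t)) ∧
      (∀ u : k0 f, ((θ (xbS f hf u) : ↥(twistedD4 K q)) : GL chevD4.Idx K) = xGL chevD4 K 14 (d * τ u)) ∧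
      (∀ u : k0 f, ((θ (ybS f hf u) : ↥(twistedD4 K q)) : GL chevD4.Idx K) = xGL chevD4 K 9 (d⁻¹ * τ u)) := by
  have La := l2_a f hf
  have Lb := l2_b f hf
  obtain ⟨c, σ, hcx, hcy, -⟩ := L2Hyp.main La θ id (fun _ => hXa) (fun _ => hYa)
  obtain ⟨d, σ', hdx, hdy, -⟩ := L2Hyp.main Lb θ id (fun _ => hXb) (fun _ => hYb)
  -- the cross relation links the two field automorphisms
  have hlink : ∀ s : k0 f, ((σ' () s : k0 f) : K) = σ () (s : K) := by
    intro s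
    by_cases hs : s = 0
    · subst hs
      simp
    have hsK : (s : K) ≠ 0 := fun e => hs (Subtype.ext e)
    have hσs : σ' () s ≠ 0 := fun e => hs ((σ' ()).injective (e.trans (map_zero _).symm))
    have hσsK : ((σ' () s : k0 f) : K) ≠ 0 := fun e => hσs (Subtype.ext e)
    -- the relation in `G¹`
    have hrel : ∀ (v : k0 f), v ≠ 0 → ∀ t : K, h (xbS f hf) (ybS f hf) v * xaS f hf t *
        (h (xbS f hf) (ybS f hf) v)⁻¹ = xaS f hf ((v : K)⁻¹ * t) := by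
      intro v hv t
      have hvK : (v : K) ≠ 0 := fun e => hv (Subtype.ext e)
      apply Subtype.ext
      rw [Subgroup.coe_mul, Subgroup.coe_mul, Subgroup.coe_inv, CR_coe_h, h_b_eq (v : K) hvK, xaS_coe,
        xaS_coe]
      exact hb_conj_xa f (v : K) hvK v.2 t
    have h1 := congrArg θ (hrel s hs 1)
    rw [map_mul, map_mul, map_inv, CR_theta_h (Lb.rel ()) θ (d ()) (σ' ()) (hdx ()) (hdy ()) s hs, hcx, hcx,
      hrel (σ' () s) hσs] at h1
    have h2 := congrArg Subtype.val h1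
    rw [xaS_coe, xaS_coe] at h2
    have h3 := xa_inj f h2
    rw [mul_one, map_inv₀, map_one, mul_one] at h3
    have hc1 : ((c () : Kˣ) : K) ≠ 0 := (c ()).ne_zero
    have h4 : ((σ' () s : k0 f) : K)⁻¹ = (σ () (s : K))⁻¹ := by
      have h5 : ((c () : Kˣ) : K) * ((σ' () s : k0 f) : K)⁻¹ = (c () : K) * (σ () (s : K))⁻¹ := by
        rw [mul_comm, h3]
      exact mul_left_cancel₀ hc1 h5
    exact inv_injective h4
  refine ⟨σ (), (c () : K), ((d () : ↥(k0 f)) : K), (c ()).ne_zero, ?_, (d () : ↥(k0 f)).2, ?_, ?_, ?_, ?_⟩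
  · intro e
    exact (d ()).ne_zero (Subtype.ext e)
  · intro t
    rw [hcx]
  · intro t
    rw [hcy, Units.val_inv_eq_inv_val]
  · intro u
    rw [hdx, xbS_coe]
    congr 1
    push_cast
    rw [hlink]
  · intro u
    rw [hdy, ybS_coe]
    congr 1
    push_cast
    rw [hlink]

end Cfsg.Agent.Helper18.Tw
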