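import Cfsg.Agent.Helper18.Tw.D4L2Defs

/-!
Helper18 / twisted D4 automorphisms, PIECE DG (diagonal automorphisms of `³D₄(q)` are inner).
-/

set_option autoImplicit false
set_option maxRecDepth 100000

namespace Cfsg.Agent.Helper18.Tw

open Cfsg Cfsg.Lie Cfsg.Agent.Helper18 Cfsg.Agent.Helper18.Aut Cfsg.Agent.Helper19.Twist
  Cfsg.Agent.Helper19.Poinc Cfsg.Agent.Helper19.Cox Cfsg.Agent.S1081 Cfsg.Agent.Helper6
  Cfsg.Agent.Helper40.SL2Hom Cfsg.Agent.S1080 Cfsg.Agent.Helper18.Sub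

/-- PIECE DG: for `c ∈ K*`, `d ∈ k₀*` there is `h ∈ H ∩ G¹` acting on `x_a` by `c` and on `x_b` by `d`.
Hint (helper19 `Twist/TorusD4.lean`): `phiD4` is injective on `H ∩ G¹` with values in `SD4 K q` (`phiD4_injOn`,
`phiD4_mapsTo`) and `|H ∩ G¹| = (q³-1)(q-1) = |SD4 K q|` (`card_torus_D4`, `ncard_SD4`), so `phiD4` is onto: there is
`h ∈ H ∩ G¹` with `rootEntry h 18 = c`, `rootEntry h 14 = d`; `rootEntry_sigma` gives the entries at 13, 12;
`diagonalSubgroup_char` gives the action on the root elements (entries at the negative roots are the inverses).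
Alternatively solve for `psiD4 f (t₀, s₀)` directly. -/
theorem exists_diag {K : Type*} [Field K] [Fintype K] {q : ℕ} (f : K ≃+* K) (hf : ∀ t, f t = t ^ q)
    (hq : 2 ≤ q) (hK : Fintype.card K = q ^ 3) (c d : K) (hc : c ≠ 0) (hd : d ≠ 0) (hfd : f d = d) :
    ∃ h : GL chevD4.Idx K, h ∈ chevD4.diagonalSubgroup K ∧ h ∈ twistedD4 K q ∧
      (∀ t, h * xa f t * h⁻¹ = xa f (c * t)) ∧ (∀ t, h * ya f t * h⁻¹ = ya f (c⁻¹ * t)) ∧
      (∀ u, h * xGL chevD4 K 14 u * h⁻¹ = xGL chevD4 K 14 (d * u)) ∧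
      (∀ u, h * xGL chevD4 K 9 u * h⁻¹ = xGL chevD4 K 9 (d⁻¹ * u)) := by
  classical
  have hq1 : 1 ≤ q := by omega
  -- `phiD4` is onto `SD4 K q`
  have hfinT : (SD4 K q).Finite := Set.toFinite _
  have himg : phiD4 '' ((chevD4.diagonalSubgroup K ⊓ twistedD4 K q : Subgroup (GL chevD4.Idx K)) :
      Set (GL chevD4.Idx K)) = SD4 K q := by
    apply Set.eq_of_subset_of_ncard_le
    · rintro _ ⟨g, hg, rfl⟩
      exact phiD4_mapsTo f hf hK g hg
    · rw [(phiD4_injOn f hf hK).ncard_image, ncard_SD4 hq1 hK, ← card_torus_D4 f hf hq hK]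
      exact (Nat.card_coe_set_eq _).le
    · exact hfinT
  have hcd : (c, d) ∈ SD4 K q := ⟨hc, hd, by rw [← hf]; exact hfd⟩
  rw [← himg] at hcd
  obtain ⟨h, hhS, hφ⟩ := hcd
  have hhS' : h ∈ chevD4.diagonalSubgroup K ⊓ twistedD4 K q := hhS
  have hH : h ∈ chevD4.diagonalSubgroup K := hhS'.1
  have hG : h ∈ twistedD4 K q := hhS'.2
  have e18 : rootEntry chevD4 (h : Matrix chevD4.Idx chevD4.Idx K) 18 = c := congrArg Prod.fst hφ
  have e14 : rootEntry chevD4 (h : Matrix chevD4.Idx chevD4.Idx K) 14 = d := congrArg Prod.snd hφ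
  have e13 : rootEntry chevD4 (h : Matrix chevD4.Idx chevD4.Idx K) 13 = f c := by
    have h1 := entry_sigma_D4 f hf hK h hhS' 18 (by decide)
    have p : pi1 18 = 13 := rfl
    rw [p, e18] at h1
    exact h1
  have e12 : rootEntry chevD4 (h : Matrix chevD4.Idx chevD4.Idx K) 12 = f (f c) := by
    have h1 := entry_sigma_D4 f hf hK h hhS' 13 (by decide)
    have p : pi1 13 = 12 := rfl
    rw [p, e13] at h1
    exact h1
  obtain ⟨χ', -, hd', hm'⟩ := diag_char_mul chevD4 memD4 coordD4 coordOK_D4 h hH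
  obtain ⟨χ, -, hdχ, hconj⟩ := diagonalSubgroup_char chevD4 memD4 h hH
  have hχ : ∀ u, u < chevD4.nroots → χ u = rootEntry chevD4 (h : Matrix chevD4.Idx chevD4.Idx K) u := by
    intro u hu
    rw [hdχ, rootEntry_diagonal chevD4 χ u hu]
  have hχ' : ∀ u, u < chevD4.nroots →
      χ' u = rootEntry chevD4 (h : Matrix chevD4.Idx chevD4.Idx K) u := by
    intro u hu
    rw [hd', rootEntry_diagonal chevD4 χ' u hu]
  have c18 : χ 18 = c := by rw [hχ 18 (by decide), e18]
  have c14 : χ 14 = d := by rw [hχ 14 (by decide), e14]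
  have c13 : χ 13 = f c := by rw [hχ 13 (by decide), e13]
  have c12 : χ 12 = f (f c) := by rw [hχ 12 (by decide), e12]
  have c18' : χ' 18 = c := by rw [hχ' 18 (by decide), e18]
  have c14' : χ' 14 = d := by rw [hχ' 14 (by decide), e14]
  have c13' : χ' 13 = f c := by rw [hχ' 13 (by decide), e13]
  have c12' : χ' 12 = f (f c) := by rw [hχ' 12 (by decide), e12]
  have hr : chevD4.rank = 4 := rfl
  have s0 : chevD4.simple 0 = 18 := rfl
  have s1 : chevD4.simple 1 = 14 := rfl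
  have s2 : chevD4.simple 2 = 13 := rfl
  have s3 : chevD4.simple 3 = 12 := rfl
  have hprod : ∀ u, u < chevD4.nroots → χ u =
      c ^ coordD4 u 0 * d ^ coordD4 u 1 * (f c) ^ coordD4 u 2 * (f (f c)) ^ coordD4 u 3 := by
    intro u hu
    rw [hχ u hu, ← hχ' u hu, hm' u hu, hr, Finset.prod_range_succ, Finset.prod_range_succ,
      Finset.prod_range_succ, Finset.prod_range_one, s0, s1, s2, s3, c18', c14', c13', c12']
  have n5 : χ 5 = c⁻¹ := by
    rw [hprod 5 (by decide)]
    have k0 : coordD4 5 0 = -1 := by decide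
    have k1 : coordD4 5 1 = 0 := by decide
    have k2 : coordD4 5 2 = 0 := by decide
    have k3 : coordD4 5 3 = 0 := by decide
    rw [k0, k1, k2, k3]; simp
  have n9 : χ 9 = d⁻¹ := by
    rw [hprod 9 (by decide)]
    have k0 : coordD4 9 0 = 0 := by decide
    have k1 : coordD4 9 1 = -1 := by decide
    have k2 : coordD4 9 2 = 0 := by decide
    have k3 : coordD4 9 3 = 0 := by decide
    rw [k0, k1, k2, k3]; simp
  have n10 : χ 10 = (f c)⁻¹ := by
    rw [hprod 10 (by decide)]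
    have k0 : coordD4 10 0 = 0 := by decide
    have k1 : coordD4 10 1 = 0 := by decide
    have k2 : coordD4 10 2 = -1 := by decide
    have k3 : coordD4 10 3 = 0 := by decide
    rw [k0, k1, k2, k3]; simp
  have n11 : χ 11 = (f (f c))⁻¹ := by
    rw [hprod 11 (by decide)]
    have k0 : coordD4 11 0 = 0 := by decide
    have k1 : coordD4 11 1 = 0 := by decide
    have k2 : coordD4 11 2 = 0 := by decide
    have k3 : coordD4 11 3 = -1 := by decide
    rw [k0, k1, k2, k3]; simp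
  have hcj : ∀ r, r < chevD4.nroots → ∀ t : K,
      h * xGL chevD4 K r t * h⁻¹ = xGL chevD4 K r (χ r * t) := by
    intro r hr t
    rw [hconj r hr t, mul_inv_cancel_right]
  refine ⟨h, hH, hG, ?_, ?_, ?_, ?_⟩
  · intro t
    unfold xa
    have e : h * (xGL chevD4 K 18 t * xGL chevD4 K 13 (f t) * xGL chevD4 K 12 (f (f t))) * h⁻¹ =
        (h * xGL chevD4 K 18 t * h⁻¹) * (h * xGL chevD4 K 13 (f t) * h⁻¹) *
          (h * xGL chevD4 K 12 (f (f t)) * h⁻¹) := by group
    rw [e, hcj 18 (by decide), hcj 13 (by decide), hcj 12 (by decide), c18, c13, c12]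
    simp only [map_mul]
  · intro t
    unfold ya
    have e : h * (xGL chevD4 K 5 t * xGL chevD4 K 10 (f t) * xGL chevD4 K 11 (f (f t))) * h⁻¹ =
        (h * xGL chevD4 K 5 t * h⁻¹) * (h * xGL chevD4 K 10 (f t) * h⁻¹) *
          (h * xGL chevD4 K 11 (f (f t)) * h⁻¹) := by group
    rw [e, hcj 5 (by decide), hcj 10 (by decide), hcj 11 (by decide), n5, n10, n11]
    simp only [map_mul, map_inv₀]
  · intro u
    rw [hcj 14 (by decide), c14]
  · intro u
    rw [hcj 9 (by decide), n9]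

end Cfsg.Agent.Helper18.Tw
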