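import Cfsg.Agent.Helper18.Tw.P_Rel

/-!
Helper18 / twisted D4 automorphisms, PIECE X (the fixed points of `σ` in the fundamental root subgroups).
(Proofs: helper4, ported from helper5's `Helper36/TwE6/P_Fix.lean`.)
-/

set_option autoImplicit false
set_option maxRecDepth 100000

namespace Cfsg.Agent.Helper18.Tw

open Cfsg Cfsg.Lie Cfsg.Agent.Helper18 Cfsg.Agent.Helper18.Aut Cfsg.Agent.Helper19.Twist
  Cfsg.Agent.Helper19.Poinc Cfsg.Agent.Helper19.Cox Cfsg.Agent.S1081 Cfsg.Agent.Helper6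
  Cfsg.Agent.Helper40.SL2Hom

section FXaux

variable {K : Type*} [Field K]

/-- conjugation maps a closure into a subgroup if it does so on the generators -/
theorem FX_conj_closure {Γ : Type*} [Group Γ] (n : Γ) (S : Set Γ) (H : Subgroup Γ)
    (hS : ∀ s ∈ S, n * s * n⁻¹ ∈ H) (g : Γ) (hg : g ∈ Subgroup.closure S) : n * g * n⁻¹ ∈ H := by
  induction hg using Subgroup.closure_induction with
  | mem x hx => exact hS x hx
  | one => simp
  | mul a b _ _ ha hb =>
    have : n * (a * b) * n⁻¹ = (n * a * n⁻¹) * (n * b * n⁻¹) := by group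
    rw [this]; exact H.mul_mem ha hb
  | inv a _ ha =>
    have : n * a⁻¹ * n⁻¹ = (n * a * n⁻¹)⁻¹ := by group
    rw [this]; exact H.inv_mem ha

theorem FX_xGL_mem_list (P : List ℕ) (r : ℕ) (hr : r ∈ P) (t : K) :
    xGL chevD4 K r t ∈ listSubgroup chevD4 K P :=
  Subgroup.subset_closure ⟨r, t, hr, xGL_val chevD4 _ (triOK_of_mem chevD4 memD4) r t⟩

/-- `w_a(1) = n_{p₁}(1) n_{p₃}(1) n_{p₄}(1)` -/
theorem FX_w_a_one (f : K ≃+* K) :
    w (xa f) (ya f) 1 = nG chevD4 K 18 1 * nG chevD4 K 13 1 * nG chevD4 K 12 1 := by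
  rw [RE_w_a, map_one, map_one]

/-- `n_r(1)` conjugates `x_{-r}(t)` to `x_r(-t)` -/
theorem FX_n_conj (r : ℕ) (hr : r < chevD4.nroots) (t : K) :
    nG chevD4 K r 1 * xGL chevD4 K (chevD4.neg r) t * (nG chevD4 K r 1)⁻¹ = xGL chevD4 K r (-t) := by
  have R := rel18 (K := K) r hr
  have := R.conj_y 1 t one_ne_zero
  rw [RE_w_eq_nG, one_mul, one_mul] at this
  exact this

/-- `s_a` conjugates `X_{-p₁} X_{-p₃} X_{-p₄}` into `X_{p₁} X_{p₃} X_{p₄}` -/
theorem FX_conj_neg (f : K ≃+* K) (g : GL chevD4.Idx K) (hg : g ∈ listSubgroup chevD4 K [5, 10, 11]) :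
    w (xa f) (ya f) 1 * g * (w (xa f) (ya f) 1)⁻¹ ∈ listSubgroup chevD4 K [18, 13, 12] := by
  have c18 := FX_n_conj (K := K) 18 (by decide)
  have c13 := FX_n_conj (K := K) 13 (by decide)
  have c12 := FX_n_conj (K := K) 12 (by decide)
  rw [RE_neg18] at c18
  rw [RE_neg13] at c13
  rw [RE_neg12] at c12
  -- commutation of the `n`'s with the foreign root elements
  have h5_13 : ∀ v : K, Commute (xGL chevD4 K 5 v) (nG chevD4 K 13 1) := fun v => by
    have := xn_commute_n (K := K) chevD4 memD4 18 13 orth_18_13 v 1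
    rwa [RE_neg18] at this
  have h5_12 : ∀ v : K, Commute (xGL chevD4 K 5 v) (nG chevD4 K 12 1) := fun v => by
    have := xn_commute_n (K := K) chevD4 memD4 18 12 orth_18_12 v 1
    rwa [RE_neg18] at this
  have h10_12 : ∀ v : K, Commute (xGL chevD4 K 10 v) (nG chevD4 K 12 1) := fun v => by
    have := xn_commute_n (K := K) chevD4 memD4 13 12 orth_13_12 v 1
    rwa [RE_neg13] at this
  have h13_18 : ∀ v : K, Commute (xGL chevD4 K 13 v) (nG chevD4 K 18 1) := fun v => by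
    rw [nG_eq]
    exact (((x_commute_x chevD4 memD4 18 13 orth_18_13 _ _).symm.mul_right
      (xn_commute_x chevD4 memD4 18 13 orth_18_13 _ _).symm).mul_right
      (x_commute_x chevD4 memD4 18 13 orth_18_13 _ _).symm)
  have h12_18 : ∀ v : K, Commute (xGL chevD4 K 12 v) (nG chevD4 K 18 1) := fun v => by
    rw [nG_eq]
    exact (((x_commute_x chevD4 memD4 18 12 orth_18_12 _ _).symm.mul_right
      (xn_commute_x chevD4 memD4 18 12 orth_18_12 _ _).symm).mul_right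
      (x_commute_x chevD4 memD4 18 12 orth_18_12 _ _).symm)
  have h12_13 : ∀ v : K, Commute (xGL chevD4 K 12 v) (nG chevD4 K 13 1) := fun v => by
    rw [nG_eq]
    exact (((x_commute_x chevD4 memD4 13 12 orth_13_12 _ _).symm.mul_right
      (xn_commute_x chevD4 memD4 13 12 orth_13_12 _ _).symm).mul_right
      (x_commute_x chevD4 memD4 13 12 orth_13_12 _ _).symm)
  unfold listSubgroup at hg
  refine FX_conj_closure _ _ _ ?_ g hg
  rintro s ⟨r, t, hr, hs⟩
  have es : s = xGL chevD4 K r t := Units.ext (by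
    rw [hs, xGL_val chevD4 _ (triOK_of_mem chevD4 memD4)])
  simp only [List.mem_cons, List.not_mem_nil, or_false] at hr
  rw [es, FX_w_a_one]
  rcases hr with rfl | rfl | rfl
  · -- `x_{-p₁}`: commutes with `n_{13}`, `n_{12}`
    have : nG chevD4 K 18 1 * nG chevD4 K 13 1 * nG chevD4 K 12 1 * xGL chevD4 K 5 t *
        (nG chevD4 K 18 1 * nG chevD4 K 13 1 * nG chevD4 K 12 1)⁻¹ = xGL chevD4 K 18 (-t) := by
      rw [← c18 t]
      have e1 := (h5_13 t).eq
      have e2 := (h5_12 t).eq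
      calc nG chevD4 K 18 1 * nG chevD4 K 13 1 * nG chevD4 K 12 1 * xGL chevD4 K 5 t *
          (nG chevD4 K 18 1 * nG chevD4 K 13 1 * nG chevD4 K 12 1)⁻¹
          = nG chevD4 K 18 1 * nG chevD4 K 13 1 * (xGL chevD4 K 5 t * nG chevD4 K 12 1) *
            (nG chevD4 K 18 1 * nG chevD4 K 13 1 * nG chevD4 K 12 1)⁻¹ := by rw [e2]; group
        _ = nG chevD4 K 18 1 * (xGL chevD4 K 5 t * nG chevD4 K 13 1) * nG chevD4 K 12 1 *
            (nG chevD4 K 18 1 * nG chevD4 K 13 1 * nG chevD4 K 12 1)⁻¹ := by rw [e1]; group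
        _ = nG chevD4 K 18 1 * xGL chevD4 K 5 t * (nG chevD4 K 18 1)⁻¹ := by group
    rw [this]
    exact FX_xGL_mem_list _ _ (by simp) _
  · -- `x_{-p₃}`: commutes with `n_{12}`; the result commutes with `n_{18}`
    have : nG chevD4 K 18 1 * nG chevD4 K 13 1 * nG chevD4 K 12 1 * xGL chevD4 K 10 t *
        (nG chevD4 K 18 1 * nG chevD4 K 13 1 * nG chevD4 K 12 1)⁻¹ = xGL chevD4 K 13 (-t) := by
      have e2 := (h10_12 t).eq
      have e3 := (h13_18 (-t)).eq
      calc nG chevD4 K 18 1 * nG chevD4 K 13 1 * nG chevD4 K 12 1 * xGL chevD4 K 10 t *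
          (nG chevD4 K 18 1 * nG chevD4 K 13 1 * nG chevD4 K 12 1)⁻¹
          = nG chevD4 K 18 1 * nG chevD4 K 13 1 * (xGL chevD4 K 10 t * nG chevD4 K 12 1) *
            (nG chevD4 K 18 1 * nG chevD4 K 13 1 * nG chevD4 K 12 1)⁻¹ := by rw [e2]; group
        _ = nG chevD4 K 18 1 * (nG chevD4 K 13 1 * xGL chevD4 K 10 t * (nG chevD4 K 13 1)⁻¹) *
            (nG chevD4 K 18 1)⁻¹ := by group
        _ = nG chevD4 K 18 1 * xGL chevD4 K 13 (-t) * (nG chevD4 K 18 1)⁻¹ := by rw [c13 t]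
        _ = xGL chevD4 K 13 (-t) := by rw [← e3]; group
    rw [this]
    exact FX_xGL_mem_list _ _ (by simp) _
  · -- `x_{-p₄}`: the result commutes with `n_{18}`, `n_{13}`
    have : nG chevD4 K 18 1 * nG chevD4 K 13 1 * nG chevD4 K 12 1 * xGL chevD4 K 11 t *
        (nG chevD4 K 18 1 * nG chevD4 K 13 1 * nG chevD4 K 12 1)⁻¹ = xGL chevD4 K 12 (-t) := by
      have e3 := (h12_18 (-t)).eq
      have e4 := (h12_13 (-t)).eq
      calc nG chevD4 K 18 1 * nG chevD4 K 13 1 * nG chevD4 K 12 1 * xGL chevD4 K 11 t *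
          (nG chevD4 K 18 1 * nG chevD4 K 13 1 * nG chevD4 K 12 1)⁻¹
          = nG chevD4 K 18 1 * nG chevD4 K 13 1 * (nG chevD4 K 12 1 * xGL chevD4 K 11 t * (nG chevD4 K 12 1)⁻¹) *
            (nG chevD4 K 13 1)⁻¹ * (nG chevD4 K 18 1)⁻¹ := by group
        _ = nG chevD4 K 18 1 * (nG chevD4 K 13 1 * xGL chevD4 K 12 (-t)) *
            (nG chevD4 K 13 1)⁻¹ * (nG chevD4 K 18 1)⁻¹ := by rw [c12 t]; group
        _ = nG chevD4 K 18 1 * xGL chevD4 K 12 (-t) * (nG chevD4 K 18 1)⁻¹ := by rw [← e4]; group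
        _ = xGL chevD4 K 12 (-t) := by rw [← e3]; group
    rw [this]
    exact FX_xGL_mem_list _ _ (by simp) _

end FXaux

/-- PIECE X1: `(X_{p₁} X_{p₃} X_{p₄})^σ = X_a` (this is inside the proof of `simpleJ_le_D4`) -/
theorem fixJ_pos {K : Type*} [Field K] [Fintype K] (f : K ≃+* K) (g : GL chevD4.Idx K)
    (hg : g ∈ listSubgroup chevD4 K [18, 13, 12] ⊓ FixD4 f) : ∃ t, g = xa f t := by
  have c1 : ClosedList chevD4 phiTD4 [[18, 13, 12]].flatten := by
    rw [flatten_singleton]; exact closedOK_spec (List.all_eq_true.mp closedOK_D4_each _ (by decide))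
  have c2 : classOK chevD4 pi1 [[18, 13, 12]] = true := List.all_eq_true.mp classOK_D4_each _ (by decide)
  have h1 := fix_listSubgroup_eq (K := K) memD4 gradeOK'_D4 rho1 rhoInv1 pi1 piInv1 eps1 permsOK_D4 f allOK1
    [[18, 13, 12]] c1 c2
  rw [flatten_singleton] at h1
  have hg' : g ∈ ((listSubgroup chevD4 K [18, 13, 12] ⊓ Fix chevD4 rho1 rhoInv1 pi1 piInv1 eps1 permsOK_D4 f :
      Subgroup (GL chevD4.Idx K)) : Set (GL chevD4.Idx K)) := hg
  rw [h1] at hg'
  obtain ⟨t, ht, rfl⟩ := hg'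
  obtain ⟨-, ht2⟩ := mem_TS' piInv1 eps1 f _ t ht
  have e13 := ht2 13 (by decide)
  have e12 := ht2 12 (by decide)
  have p13 : piInv1 13 = 18 := rfl
  have p12 : piInv1 12 = 13 := rfl
  have s18 : eps1 18 = 1 := rfl
  have s13 : eps1 13 = 1 := rfl
  rw [p13, s18, Int.cast_one, one_mul] at e13
  rw [p12, s13, Int.cast_one, one_mul, e13] at e12
  refine ⟨t 18, ?_⟩
  unfold xa
  simp only [pwG, List.map_cons, List.map_nil, List.prod_cons, List.prod_nil, mul_one]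
  rw [e13, e12, mul_assoc]

/-- PIECE X2: `(X_{-p₁} X_{-p₃} X_{-p₄})^σ = X_{-a}` (conjugate by `s_a`: `sTw0_eq`, `rel_a`, `Rel.conj`;
or directly: the three root subgroups commute, uniqueness of the expression) -/
theorem fixJ_neg {K : Type*} [Field K] [Fintype K] {q : ℕ} (f : K ≃+* K) (hf : ∀ t, f t = t ^ q)
    (hK : Fintype.card K = q ^ 3) (g : GL chevD4.Idx K)
    (hg : g ∈ listSubgroup chevD4 K [5, 10, 11] ⊓ FixD4 f) : ∃ t, g = ya f t := by
  have R := rel_a f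
  have hn : w (xa f) (ya f) 1 ∈ FixD4 f := by
    rw [← sTw0_eq f hf]
    exact twistedD4_le_FixD4 f hf hK (sTw f hf 0).2
  have h1 : w (xa f) (ya f) 1 * g * (w (xa f) (ya f) 1)⁻¹ ∈
      listSubgroup chevD4 K [18, 13, 12] ⊓ FixD4 f :=
    ⟨FX_conj_neg f g hg.1, (FixD4 f).mul_mem ((FixD4 f).mul_mem hn hg.2) ((FixD4 f).inv_mem hn)⟩
  obtain ⟨t, ht⟩ := fixJ_pos f _ h1
  refine ⟨-(1⁻¹ * 1⁻¹ * t), ?_⟩
  rw [← R.conj' 1 t one_ne_zero, ← ht]
  group

/-- PIECE X3: `X_{p₂}^σ = X_b` (`sigD4_xGL`, `xGL_injective`) -/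
theorem fix2_pos {K : Type*} [Field K] (f : K ≃+* K) (g : GL chevD4.Idx K)
    (hg : g ∈ chevD4.rootSubgroup K 14 ⊓ FixD4 f) : ∃ u, f u = u ∧ g = xGL chevD4 K 14 u := by
  obtain ⟨u, rfl⟩ := mem_rootSubgroup chevD4 memD4 14 g hg.1
  refine ⟨u, ?_, rfl⟩
  have h2 := (mem_FixD4 f _).mp hg.2
  rw [sigD4_xGL f _ (by decide)] at h2
  have e1 : pi1 14 = 14 := rfl
  have e2 : eps1 14 = 1 := rfl
  rw [e1, e2, Int.cast_one, one_mul] at h2
  exact xGL_injective chevD4 memD4 14 (by decide) h2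

/-- PIECE X4: `X_{-p₂}^σ = X_{-b}` -/
theorem fix2_neg {K : Type*} [Field K] (f : K ≃+* K) (g : GL chevD4.Idx K)
    (hg : g ∈ chevD4.rootSubgroup K 9 ⊓ FixD4 f) : ∃ u, f u = u ∧ g = xGL chevD4 K 9 u := by
  obtain ⟨u, rfl⟩ := mem_rootSubgroup chevD4 memD4 9 g hg.1
  refine ⟨u, ?_, rfl⟩
  have h2 := (mem_FixD4 f _).mp hg.2
  rw [sigD4_xGL f _ (by decide)] at h2
  have e1 : pi1 9 = 9 := rfl
  have e2 : eps1 9 = 1 := rfl
  rw [e1, e2, Int.cast_one, one_mul] at h2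
  exact xGL_injective chevD4 memD4 9 (by decide) h2

section FXaux2

variable {K : Type*} [Field K]

/-- the coefficient family of `x_{p₁}(a) x_{p₃}(b) x_{p₄}(c)` -/
def FX_coef3 (a b c : K) : ℕ → K := fun r => if r = 18 then a else if r = 13 then b else if r = 12 then c else 0

theorem FX_pwG_coef3 (a b c : K) :
    pwG chevD4 K [18, 13, 12] (FX_coef3 a b c) = xGL chevD4 K 18 a * xGL chevD4 K 13 b * xGL chevD4 K 12 c := by
  rw [pwG_cons, pwG_cons, pwG_cons, pwG_nil, mul_one, mul_assoc]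
  simp [FX_coef3]

/-- uniqueness of the expression in `X_{p₁} X_{p₃} X_{p₄}` -/
theorem FX_prod3_inj (a b c a' b' c' : K)
    (h : xGL chevD4 K 18 a * xGL chevD4 K 13 b * xGL chevD4 K 12 c =
      xGL chevD4 K 18 a' * xGL chevD4 K 13 b' * xGL chevD4 K 12 c') : a = a' := by
  have hP : ClosedList chevD4 phiTD4 [18, 13, 12] :=
    closedOK_spec (List.all_eq_true.mp closedOK_D4_each [18, 13, 12] (by decide))
  have h0 : ∀ (x y z : K) (r : ℕ), r ∉ [18, 13, 12] → FX_coef3 x y z r = 0 := by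
    intro x y z r hr
    simp only [List.mem_cons, List.not_mem_nil, or_false, not_or] at hr
    simp [FX_coef3, hr.1, hr.2.1, hr.2.2]
  have h1 := pwG_injOn (K := K) memD4 gradeOK'_D4 [18, 13, 12] hP (FX_coef3 a b c) (FX_coef3 a' b' c')
    (h0 a b c) (h0 a' b' c') (by rw [FX_pwG_coef3, FX_pwG_coef3, h])
  have := congrFun h1 18
  simpa [FX_coef3] using this

end FXaux2

/-- PIECE X5: `x_a` is injective (`pwG_injOn`, or `U ∩ V = 1` and the relations) -/
theorem xa_inj {K : Type*} [Field K] (f : K ≃+* K) : Function.Injective (xa f) := by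
  intro s t h
  exact FX_prod3_inj _ _ _ _ _ _ h

/-- PIECE X6: `x_{-a}` is injective -/
theorem ya_inj {K : Type*} [Field K] (f : K ≃+* K) : Function.Injective (ya f) := by
  intro s t h
  have R := rel_a f
  have h1 := R.conj_y 1 s one_ne_zero
  have h2 := R.conj_y 1 t one_ne_zero
  rw [h] at h1
  have h3 := xa_inj f (h1.symm.trans h2)
  simpa using h3

/-- PIECE X7: `x_a(t) ∈ V` only for `t = 0` (in fact `x_a(t) ∈ U`, `U ∩ V = 1`: `pos_inf_neg'`) -/
theorem xa_mem_neg {K : Type*} [Field K] (f : K ≃+* K) (t : K) (h : xa f t ∈ chevD4.negUnipotent K) : t = 0 := by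
  have hpos : ∀ r, 12 ≤ r → r < 24 → ∀ u : K, xGL chevD4 K r u ∈ chevD4.posUnipotent K := by
    intro r h1 h2 u
    refine rootSubgroup_le_pos chevD4 r ?_ (Cfsg.Agent.Helper18.Aut.xGL_mem_rootSubgroup chevD4 memD4 r u)
    exact (isPosRoot_iff chevD4 _ (posOK_of_mem chevD4 memD4) r).mpr ⟨h1, h2⟩
  have hU : xa f t ∈ chevD4.posUnipotent K := by
    unfold xa
    exact mul_mem (mul_mem (hpos 18 (by decide) (by decide) _) (hpos 13 (by decide) (by decide) _))
      (hpos 12 (by decide) (by decide) _)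
  have h1 : xa f t ∈ chevD4.posUnipotent K ⊓ chevD4.negUnipotent K := ⟨hU, h⟩
  rw [pos_inf_neg' chevD4 memD4, Subgroup.mem_bot, ← xa_zero f] at h1
  exact xa_inj f h1

end Cfsg.Agent.Helper18.Tw
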