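import Cfsg.Agent.Helper18.Tw.D4L2Defs
import Cfsg.Agent.Helper18.Tw.P_Fix

/-!
Helper18 / twisted D4 automorphisms, PIECE EX (generation; field automorphisms on the generators; orders of the
fundamental root subgroups).
(Proofs: helper4, ported from helper75's `Helper36/TwE6/P_Ext.lean`.)
-/

set_option autoImplicit false
set_option maxRecDepth 100000

namespace Cfsg.Agent.Helper18.Tw

open Cfsg Cfsg.Lie Cfsg.Agent.Helper18 Cfsg.Agent.Helper18.Aut Cfsg.Agent.Helper19.Twist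
  Cfsg.Agent.Helper19.Poinc Cfsg.Agent.Helper19.Cox Cfsg.Agent.S1081 Cfsg.Agent.Helper6
  Cfsg.Agent.Helper40.SL2Hom Cfsg.Agent.S1080 Cfsg.Agent.Helper18.Sub

/-- the generators of `³D₄(q)` are root elements of one of the four kinds -/
theorem EX_gen_cases {K : Type*} [Field K] {q : ℕ} (f : K ≃+* K) (hf : ∀ t, f t = t ^ q)
    (g : GL chevD4.Idx K)
    (hg : g ∈ {g : GL chevD4.Idx K | ∃ w ∈ d4Words K q,
      (g : Matrix chevD4.Idx chevD4.Idx K) = chevD4.wordMat K w}) :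
    (∃ t, g = xa f t) ∨ (∃ t, g = ya f t) ∨
      (∃ u, f u = u ∧ g = xGL chevD4 K 14 u) ∨ (∃ u, f u = u ∧ g = xGL chevD4 K 9 u) := by
  have htri := triOK_of_mem chevD4 memD4
  obtain ⟨w, hw, hg⟩ := hg
  rcases hw with ⟨t, ht, r, hr, rfl⟩ | ⟨t, rs, hrs, rfl⟩
  · have e : g = xGL chevD4 K r t := Units.ext (by
      rw [hg, xGL_val chevD4 _ htri]; simp [ChevalleyDatum.wordMat])
    have hft : f t = t := by rw [hf, ht]
    simp only [d4p2, d4m2, List.mem_cons, List.not_mem_nil, or_false] at hr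
    rcases hr with rfl | rfl
    · right; right; left; exact ⟨t, hft, e⟩
    · right; right; right; exact ⟨t, hft, e⟩
  · have hff : f (f t) = t ^ (q ^ 2) := by rw [hf, hf, ← pow_mul, sq]
    have e : g = xGL chevD4 K rs.1 t * xGL chevD4 K rs.2.1 (f t) * xGL chevD4 K rs.2.2 (f (f t)) := Units.ext (by
      rw [hg, Units.val_mul, Units.val_mul, xGL_val chevD4 _ htri, xGL_val chevD4 _ htri,
        xGL_val chevD4 _ htri, hff, hf]
      simp [ChevalleyDatum.wordMat, mul_assoc])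
    simp only [d4p1, d4p3, d4p4, d4m1, d4m3, d4m4, List.mem_cons, List.not_mem_nil, or_false] at hrs
    rcases hrs with rfl | rfl
    · left; exact ⟨t, e⟩
    · right; left; exact ⟨t, e⟩

/-- PIECE EX1: an automorphism is determined by its values on the root elements (`twistedD4` is the closure of
the words in `d4Words`; each is one of the four kinds of root elements) -/
theorem aut_ext_twD4 {K : Type*} [Field K] [Fintype K] {q : ℕ} (f : K ≃+* K) (hf : ∀ t, f t = t ^ q)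
    (θ θ' : ↥(twistedD4 K q) ≃* ↥(twistedD4 K q))
    (h1 : ∀ t, θ (xaS f hf t) = θ' (xaS f hf t)) (h2 : ∀ t, θ (yaS f hf t) = θ' (yaS f hf t))
    (h3 : ∀ u, θ (xbS f hf u) = θ' (xbS f hf u)) (h4 : ∀ u, θ (ybS f hf u) = θ' (ybS f hf u)) : θ = θ' := by
  have key : ∀ (x : GL chevD4.Idx K), x ∈ Subgroup.closure {g : GL chevD4.Idx K | ∃ w ∈ d4Words K q,
      (g : Matrix chevD4.Idx chevD4.Idx K) = chevD4.wordMat K w} →
      ∀ hx : x ∈ twistedD4 K q, θ ⟨x, hx⟩ = θ' ⟨x, hx⟩ := by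
    intro x hx
    induction hx using Subgroup.closure_induction with
    | mem g hg =>
      intro hx
      rcases EX_gen_cases f hf g hg with ⟨t, rfl⟩ | ⟨t, rfl⟩ | ⟨u, hu, rfl⟩ | ⟨u, hu, rfl⟩
      · exact h1 t
      · exact h2 t
      · exact h3 ⟨u, hu⟩
      · exact h4 ⟨u, hu⟩
    | one =>
      intro hx
      have : (⟨1, hx⟩ : ↥(twistedD4 K q)) = 1 := rfl
      rw [this, map_one, map_one]
    | mul a b ha hb iha ihb =>
      intro hx
      have ha' : a ∈ twistedD4 K q := ha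
      have hb' : b ∈ twistedD4 K q := hb
      have : (⟨a * b, hx⟩ : ↥(twistedD4 K q)) = ⟨a, ha'⟩ * ⟨b, hb'⟩ := rfl
      rw [this, map_mul, map_mul, iha ha', ihb hb']
    | inv a ha iha =>
      intro hx
      have ha' : a ∈ twistedD4 K q := ha
      have : (⟨a⁻¹, hx⟩ : ↥(twistedD4 K q)) = (⟨a, ha'⟩ : ↥(twistedD4 K q))⁻¹ := rfl
      rw [this, map_inv, map_inv, iha ha']
  apply MulEquiv.ext
  rintro ⟨x, hx⟩
  exact key x hx hx

/-- PIECE EX2: field automorphisms on the root elements (`glEquiv_xGL`; `τ` commutes with `t ↦ t^q`) -/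
theorem fieldTw_xaS {K : Type*} [Field K] {q : ℕ} (f : K ≃+* K) (hf : ∀ t, f t = t ^ q) (τ : K ≃+* K) (t : K) :
    fieldTw q τ (xaS f hf t) = xaS f hf (τ t) := by
  apply Subtype.ext
  rw [fieldTw_coe, xaS_coe, xaS_coe]
  unfold xa
  rw [map_mul, map_mul, glEquiv_xGL chevD4 memD4, glEquiv_xGL chevD4 memD4, glEquiv_xGL chevD4 memD4]
  simp only [hf, map_pow]

theorem fieldTw_yaS {K : Type*} [Field K] {q : ℕ} (f : K ≃+* K) (hf : ∀ t, f t = t ^ q) (τ : K ≃+* K) (t : K) :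
    fieldTw q τ (yaS f hf t) = yaS f hf (τ t) := by
  apply Subtype.ext
  rw [fieldTw_coe, yaS_coe, yaS_coe]
  unfold ya
  rw [map_mul, map_mul, glEquiv_xGL chevD4 memD4, glEquiv_xGL chevD4 memD4, glEquiv_xGL chevD4 memD4]
  simp only [hf, map_pow]

theorem fieldTw_xbS {K : Type*} [Field K] {q : ℕ} (f : K ≃+* K) (hf : ∀ t, f t = t ^ q) (τ : K ≃+* K) (u : k0 f) :
    ((fieldTw q τ (xbS f hf u) : ↥(twistedD4 K q)) : GL chevD4.Idx K) = xGL chevD4 K 14 (τ u) := by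
  rw [fieldTw_coe, xbS_coe, glEquiv_xGL chevD4 memD4]

theorem fieldTw_ybS {K : Type*} [Field K] {q : ℕ} (f : K ≃+* K) (hf : ∀ t, f t = t ^ q) (τ : K ≃+* K) (u : k0 f) :
    ((fieldTw q τ (ybS f hf u) : ↥(twistedD4 K q)) : GL chevD4.Idx K) = xGL chevD4 K 9 (τ u) := by
  rw [fieldTw_coe, ybS_coe, glEquiv_xGL chevD4 memD4]

/-- the fixed field has `q` elements (helper19 `ncard_fix_field`) -/
theorem EX_card_k0 {K : Type*} [Field K] [Fintype K] {q : ℕ} (f : K ≃+* K) (hf : ∀ t, f t = t ^ q)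
    (hq : 1 ≤ q) (hK : Fintype.card K = q ^ 3) : Nat.card ↥(k0 f) = q := by
  have h := ncard_fix_field f hf hq hK
  rw [← h]
  rfl

/-- PIECE EX3: `|X_a| = q³` (`t ↦ x_a(t)` is a bijection `K → X_a`: `xa_inj`, `mem_XA`) -/
theorem card_Xp0 {K : Type*} [Field K] [Fintype K] {q : ℕ} (f : K ≃+* K) (hf : ∀ t, f t = t ^ q)
    (hK : Fintype.card K = q ^ 3) : Nat.card ↥(XpTw f q 0) = q ^ 3 := by
  have hmem : ∀ x : ↥(twistedD4 K q), x ∈ XpTw f q 0 ↔ ∃ t, x = xaS f hf t := by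
    intro x
    unfold XpTw
    rw [if_pos rfl, Subgroup.mem_subgroupOf, mem_XA]
    constructor
    · rintro ⟨t, ht⟩; exact ⟨t, Subtype.ext ht⟩
    · rintro ⟨t, rfl⟩; exact ⟨t, rfl⟩
  have hbij : Function.Bijective (fun t : K =>
      (⟨xaS f hf t, (hmem _).mpr ⟨t, rfl⟩⟩ : ↥(XpTw f q 0))) := by
    constructor
    · intro s t hst
      have h1 := congrArg (fun x : ↥(XpTw f q 0) => ((x : ↥(twistedD4 K q)) : GL chevD4.Idx K)) hst
      exact xa_inj f h1
    · rintro ⟨x, hx⟩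
      obtain ⟨t, rfl⟩ := (hmem x).mp hx
      exact ⟨t, rfl⟩
  rw [← Nat.card_congr (Equiv.ofBijective _ hbij), Nat.card_eq_fintype_card, hK]

/-- PIECE EX4: `|X_b| = q` (`u ↦ x_b(u)` is a bijection `k₀ → X_b`; `ncard_fix_field`) -/
theorem card_Xp1 {K : Type*} [Field K] [Fintype K] {q : ℕ} (f : K ≃+* K) (hf : ∀ t, f t = t ^ q)
    (hq : 1 ≤ q) (hK : Fintype.card K = q ^ 3) : Nat.card ↥(XpTw f q 1) = q := by
  have hmem : ∀ x : ↥(twistedD4 K q), x ∈ XpTw f q 1 ↔ ∃ u, x = xbS f hf u := by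
    intro x
    unfold XpTw
    rw [if_neg (by decide), Subgroup.mem_subgroupOf, mem_XB]
    constructor
    · rintro ⟨u, hu, ht⟩; exact ⟨⟨u, hu⟩, Subtype.ext ht⟩
    · rintro ⟨u, rfl⟩; exact ⟨u, u.2, rfl⟩
  have hbij : Function.Bijective (fun u : ↥(k0 f) =>
      (⟨xbS f hf u, (hmem _).mpr ⟨u, rfl⟩⟩ : ↥(XpTw f q 1))) := by
    constructor
    · intro s t hst
      have h1 := congrArg (fun x : ↥(XpTw f q 1) => ((x : ↥(twistedD4 K q)) : GL chevD4.Idx K)) hst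
      exact Subtype.ext (xGL_injective chevD4 memD4 14 (by decide) h1)
    · rintro ⟨x, hx⟩
      obtain ⟨u, rfl⟩ := (hmem x).mp hx
      exact ⟨u, rfl⟩
  rw [← Nat.card_congr (Equiv.ofBijective _ hbij), EX_card_k0 f hf hq hK]

end Cfsg.Agent.Helper18.Tw
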