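import Cfsg.Agent.Helper18.Tw.D4Sub
import Cfsg.Agent.Helper19.Twist.Frob

/-!
Helper18 / twisted D4 automorphisms, PIECE B (the Borel subgroup of `G¹`).
-/

set_option autoImplicit false
set_option maxRecDepth 100000

namespace Cfsg.Agent.Helper18.Tw

open Cfsg Cfsg.Lie Cfsg.Agent.Helper18 Cfsg.Agent.Helper18.Aut Cfsg.Agent.Helper19.Twist
  Cfsg.Agent.Helper19.Poinc Cfsg.Agent.Helper19.Cox Cfsg.Agent.S1081 Cfsg.Agent.Helper6
  Cfsg.Agent.Helper40.SL2Hom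

/-- PIECE B0: `B¹ = U¹ H¹`: an element of `B ∩ G¹` is `u * h` with `u ∈ U ∩ G¹`, `h ∈ H ∩ G¹`.
Hint: `b = u h` in the ambient group (`mem_borel_decomp`), `σ = sigD4 f` fixes `b` (`twistedD4_le_FixD4`),
`σ U = U`, `σ H = H` (`sigmaGL_posUnipotent`, `sigmaGL_diagonalSubgroup`), `U ∩ H = 1`, so `σ u = u`;
then `u ∈ G¹` by `U_fix_le_D4`. -/
theorem B1_decomp {K : Type*} [Field K] [Fintype K] {q : ℕ} (f : K ≃+* K) (hf : ∀ t, f t = t ^ q)
    (hq : 1 ≤ q) (hK : Fintype.card K = q ^ 3) (b : GL chevD4.Idx K)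
    (hb : b ∈ chevD4.borelSubgroup K) (hbG : b ∈ twistedD4 K q) :
    ∃ u ∈ chevD4.posUnipotent K, ∃ h ∈ chevD4.diagonalSubgroup K,
      u ∈ twistedD4 K q ∧ h ∈ twistedD4 K q ∧ b = u * h := by
  obtain ⟨u, hu, h, hh, e⟩ := mem_borel_decomp chevD4 memD4 b hb
  have hfix : sigD4 f b = b := (mem_FixD4 f b).mp (twistedD4_le_FixD4 f hf hK hbG)
  have hσu : sigD4 f u ∈ chevD4.posUnipotent K :=
    sigmaGL_posUnipotent chevD4 rho1 rhoInv1 pi1 piInv1 eps1 permsOK_D4 f memD4 allOK1 twistOK_D4 u hu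
  have hσh : sigD4 f h ∈ chevD4.diagonalSubgroup K :=
    sigmaGL_diagonalSubgroup chevD4 rho1 rhoInv1 pi1 piInv1 eps1 permsOK_D4 f memD4 isoOK_D4 h hh
  -- `u⁻¹ σ(u) = h σ(h)⁻¹ ∈ U ∩ H = 1`
  have e2 : sigD4 f u * sigD4 f h = u * h := by rw [← map_mul, ← e, hfix]
  have e3 : u⁻¹ * sigD4 f u = h * (sigD4 f h)⁻¹ := by
    have : sigD4 f u = u * h * (sigD4 f h)⁻¹ := by rw [← e2]; group
    rw [this]; group
  have hUH : chevD4.posUnipotent K ⊓ chevD4.diagonalSubgroup K = ⊥ := by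
    apply le_antisymm _ bot_le
    intro x hx
    have hx1 : x ∈ chevD4.posUnipotent K := (Subgroup.mem_inf.mp hx).1
    have hx2 : x ∈ chevD4.diagonalSubgroup K := (Subgroup.mem_inf.mp hx).2
    -- conjugate by the longest element into `V ∩ B`
    obtain ⟨n₀, star, hn₀, hn₀U, -, -⟩ := exists_longest_star (F := K) chevD4 memD4
    have h1 : n₀ * x * n₀⁻¹ ∈ chevD4.negUnipotent K := by
      rw [← hn₀U]
      exact conj_mem_cjg hx1
    have h2 : n₀ * x * n₀⁻¹ ∈ chevD4.diagonalSubgroup K := by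
      have hnorm := Cfsg.Agent.S1038.result (F := K) chevD4 memD4
      have := hnorm.conj_mem ⟨x, diagonalSubgroup_le_monomialSubgroup chevD4 hx2⟩
        (Subgroup.mem_subgroupOf.mpr hx2) ⟨n₀, hn₀⟩
      exact Subgroup.mem_subgroupOf.mp this
    have h3 : n₀ * x * n₀⁻¹ ∈ chevD4.borelSubgroup K ⊓ chevD4.negUnipotent K :=
      Subgroup.mem_inf.mpr ⟨diagonal_le_borel chevD4 memD4 h2, h1⟩
    rw [(Cfsg.Agent.S1037.result (F := K) chevD4 memD4).1, Subgroup.mem_bot] at h3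
    rw [Subgroup.mem_bot]
    have : x = n₀⁻¹ * (n₀ * x * n₀⁻¹) * n₀ := by group
    rw [this, h3]; group
  have h4 : u⁻¹ * sigD4 f u ∈ chevD4.posUnipotent K ⊓ chevD4.diagonalSubgroup K := by
    refine Subgroup.mem_inf.mpr ⟨mul_mem (inv_mem hu) hσu, ?_⟩
    rw [e3]
    exact mul_mem hh (inv_mem hσh)
  rw [hUH, Subgroup.mem_bot] at h4
  have hσu' : sigD4 f u = u := by
    have : sigD4 f u = u * (u⁻¹ * sigD4 f u) := by group
    rw [this, h4, mul_one]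
  have huG : u ∈ twistedD4 K q :=
    U_fix_le_D4 f hf h31D4 hq hK (Subgroup.mem_inf.mpr ⟨hu, (mem_FixD4 f u).mpr hσu'⟩)
  have hhG : h ∈ twistedD4 K q := by
    have : h = u⁻¹ * b := by rw [e]; group
    rw [this]
    exact mul_mem (inv_mem huG) hbG
  exact ⟨u, hu, h, hh, huG, hhG, e⟩

/-- PIECE C1: `B¹` normalises `U¹` (no need of B0: `cjg_borel_pos`, `cjg_subgroupOf`) -/
theorem U_norm_D4 {K : Type*} [Field K] {q : ℕ} (b : ↥(twistedD4 K q))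
    (hb : (b : GL chevD4.Idx K) ∈ chevD4.borelSubgroup K) :
    cjg b (U1 K q) = U1 K q := by
  unfold U1
  rw [cjg_subgroupOf, cjg_borel_pos chevD4 memD4 _ hb]

/-- PIECE G: `B¹`-conjugates of `V¹` are `U¹`-conjugates (from B0 and `cjg_diag_neg`) -/
theorem V_conj_D4 {K : Type*} [Field K] [Fintype K] {q : ℕ} (hq : IsPrimePow q) (hK : Fintype.card K = q ^ 3)
    (b : ↥(twistedD4 K q)) (hb : (b : GL chevD4.Idx K) ∈ chevD4.borelSubgroup K) :
    ∃ u ∈ U1 K q, cjg b (V1 K q) = cjg u (V1 K q) := by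
  obtain ⟨f, hf⟩ := exists_frob hq hK
  obtain ⟨u, hu, h, hh, huG, hhG, e⟩ := B1_decomp f hf hq.one_lt.le hK b hb b.2
  refine ⟨⟨u, huG⟩, Subgroup.mem_subgroupOf.mpr hu, ?_⟩
  have eb : b = (⟨u, huG⟩ : ↥(twistedD4 K q)) * ⟨h, hhG⟩ := Subtype.ext e
  have h1 : cjg (⟨h, hhG⟩ : ↥(twistedD4 K q)) (V1 K q) = V1 K q := by
    unfold V1
    rw [cjg_subgroupOf]
    show (cjg h (chevD4.negUnipotent K)).subgroupOf _ = _
    rw [cjg_diag_neg chevD4 memD4 h hh]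
  rw [eb, cjg_mul, h1]

end Cfsg.Agent.Helper18.Tw
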