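import Cfsg.Agent.Helper18.Tw.P_Fix

/-!
Helper18 / twisted D4 automorphisms, PIECE N (the longest element `n₀ = (s_a s_b)³`).
In the ambient group `n₀ = nWordsGL chevD4 K [0,2,3,1,0,2,3,1,0,2,3,1]` (`nN_val`), and that word sends every
positive root to a negative one (`decide +kernel`, compare `exists_longest_star` in `Helper18/Aut/ChevGL.lean`,
whose proof can be copied with this word: `w0OK`, `rhoFast_eq`, `cjg_word_rootSubgroup`, `cjg_closure_le`,
`cjg_pos_eq_neg`).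
-/

set_option autoImplicit false
set_option maxRecDepth 100000

namespace Cfsg.Agent.Helper18.Tw

open Cfsg Cfsg.Lie Cfsg.Agent.Helper18 Cfsg.Agent.Helper18.Aut Cfsg.Agent.Helper19.Twist
  Cfsg.Agent.Helper19.Poinc Cfsg.Agent.Helper19.Cox Cfsg.Agent.S1081 Cfsg.Agent.Helper6
  Cfsg.Agent.Helper40.SL2Hom

/-- the word of `n₀` in the fundamental reflections of `D₄` -/
def n0WordD4 : List ℕ := [0, 2, 3, 1, 0, 2, 3, 1, 0, 2, 3, 1]

theorem n0Word_w0OK : w0OK chevD4 reflTabsD4 n0WordD4 (hlfOf chevD4) = true := by decide +kernel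

theorem n0Word_starOK : starOK chevD4 reflTabsD4 n0WordD4 [0, 1, 2, 3] = true := by decide +kernel

theorem n0Word_lt : ∀ i ∈ n0WordD4, i < chevD4.rank := by decide

/-- `n₀` in the ambient group -/
theorem n0Tw_val {K : Type*} [Field K] [Fintype K] {q : ℕ} (f : K ≃+* K) (hf : ∀ t, f t = t ^ q) :
    ((n0Tw f hf : ↥(twistedD4 K q)) : GL chevD4.Idx K) = nWordsGL chevD4 K n0WordD4 := by
  have e0 : ((sTw f hf 0 : ↥(twistedD4 K q)) : GL chevD4.Idx K) =
      wordGL chevD4 K (chevD4.nWord 18 (1 : K)) * wordGL chevD4 K (chevD4.nWord 13 (1 : K)) *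
        wordGL chevD4 K (chevD4.nWord 12 (1 : K)) := by
    show ((repGenD4 K 0 : ↥(chevD4.monomialSubgroup K)) : GL chevD4.Idx K) = _
    have : repGenD4 K 0 = nN chevD4 K 18 * nN chevD4 K 13 * nN chevD4 K 12 := by simp [repGenD4]
    rw [this, Subgroup.coe_mul, Subgroup.coe_mul, nN_val chevD4 memD4 18 (by decide),
      nN_val chevD4 memD4 13 (by decide), nN_val chevD4 memD4 12 (by decide)]
  have e1 : ((sTw f hf 1 : ↥(twistedD4 K q)) : GL chevD4.Idx K) =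
      wordGL chevD4 K (chevD4.nWord 14 (1 : K)) := by
    show ((repGenD4 K 1 : ↥(chevD4.monomialSubgroup K)) : GL chevD4.Idx K) = _
    have : repGenD4 K 1 = nN chevD4 K 14 := by simp [repGenD4]
    rw [this, nN_val chevD4 memD4 14 (by decide)]
  have s0 : chevD4.simple 0 = 18 := rfl
  have s1 : chevD4.simple 1 = 14 := rfl
  have s2 : chevD4.simple 2 = 13 := rfl
  have s3 : chevD4.simple 3 = 12 := rfl
  unfold n0Tw
  rw [Subgroup.coe_pow, Subgroup.coe_mul, e0, e1]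
  simp only [nWordsGL, n0WordD4, List.map_cons, List.map_nil, List.prod_cons, List.prod_nil, s0, s1, s2, s3,
    mul_one, pow_succ, pow_zero, one_mul, mul_assoc]

/-- `n₀ U n₀⁻¹ = V` in the ambient group -/
theorem n0_pos_amb {K : Type*} [Field K] :
    cjg (nWordsGL chevD4 K n0WordD4) (chevD4.posUnipotent K) = chevD4.negUnipotent K := by
  have hpos := posOK_of_mem chevD4 memD4
  have hw0' := n0Word_w0OK
  unfold w0OK at hw0'
  simp only [Bool.and_eq_true, List.all_eq_true, decide_eq_true_eq, beq_iff_eq] at hw0'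
  obtain ⟨⟨hw, hfwd⟩, -⟩ := hw0'
  have hnmem := nWordsGL_mem (F := K) chevD4 memD4 n0WordD4 hw
  have hn : chevD4.nroots = hlfOf chevD4 + hlfOf chevD4 := by decide
  apply cjg_pos_eq_neg chevD4 memD4 _ hnmem
  have hle : cjg (nWordsGL chevD4 K n0WordD4) (chevD4.posUnipotent K) ≤ chevD4.negUnipotent K := by
    apply cjg_closure_le chevD4 memD4 (nWordsGL chevD4 K n0WordD4) _ _
    intro r hr
    have hr' := (isPosRoot_iff chevD4 _ hpos r).mp hr
    refine ⟨rho chevD4 n0WordD4 r, ?_, cjg_word_rootSubgroup chevD4 memD4 n0WordD4 hw r hr'.2⟩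
    rw [isNegRoot_iff chevD4 _ hpos]
    have h1 := hfwd r (List.mem_range'_1.mpr ⟨hr'.1, by omega⟩)
    rw [(rhoFast_eq chevD4 reflTabsD4 tabsOK_D4 n0WordD4 hw r hr'.2).1] at h1
    exact ⟨h1, rho_lt chevD4 memD4 n0WordD4 hw r hr'.2⟩
  apply le_antisymm _ bot_le
  rw [← pos_inf_neg' (F := K) chevD4 memD4, inf_comm]
  exact inf_le_inf_left _ hle

/-- `n₀ X_{-p_i} n₀⁻¹ = X_{p_i}` in the ambient group -/
theorem n0_simple_amb {K : Type*} [Field K] (i : ℕ) (hi : i < 4) :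
    cjg (nWordsGL chevD4 K n0WordD4) (chevD4.rootSubgroup K (chevD4.neg (chevD4.simple i))) =
      chevD4.rootSubgroup K (chevD4.simple i) := by
  have hsim := simpleOK_of_mem chevD4 memD4
  have hst := n0Word_starOK
  unfold starOK at hst
  rw [List.all_eq_true] at hst
  have h1 := hst i (List.mem_range.mpr hi)
  simp only [Bool.and_eq_true, decide_eq_true_eq, beq_iff_eq] at h1
  obtain ⟨⟨-, h3⟩, -⟩ := h1
  have hnl := neg_lt chevD4 memD4 _ (simple_lt chevD4 hsim i hi)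
  rw [cjg_word_rootSubgroup chevD4 memD4 n0WordD4 n0Word_lt _ hnl,
    ← (rhoFast_eq chevD4 reflTabsD4 tabsOK_D4 n0WordD4 n0Word_lt _ hnl).1, h3]
  have : ([0, 1, 2, 3] : List ℕ).getD i 0 = i := by interval_cases i <;> rfl
  rw [this]

/-- PIECE E1: `n₀ ∈ N` -/
theorem n0_mem_D4 {K : Type*} [Field K] [Fintype K] {q : ℕ} (f : K ≃+* K) (hf : ∀ t, f t = t ^ q) :
    ((n0Tw f hf : ↥(twistedD4 K q)) : GL chevD4.Idx K) ∈ chevD4.monomialSubgroup K := by
  rw [n0Tw_val]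
  exact nWordsGL_mem (F := K) chevD4 memD4 n0WordD4 n0Word_lt

/-- PIECE E2: `n₀ U¹ n₀⁻¹ = V¹` -/
theorem n0_U_D4 {K : Type*} [Field K] [Fintype K] {q : ℕ} (f : K ≃+* K) (hf : ∀ t, f t = t ^ q) :
    cjg (n0Tw f hf) (U1 K q) = V1 K q := by
  unfold U1 V1
  rw [cjg_subgroupOf, n0Tw_val, n0_pos_amb]

/-- PIECE E3: `n₀ V¹ n₀⁻¹ = U¹` -/
theorem n0_V_D4 {K : Type*} [Field K] [Fintype K] {q : ℕ} (f : K ≃+* K) (hf : ∀ t, f t = t ^ q) :
    cjg (n0Tw f hf) (V1 K q) = U1 K q := by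
  unfold U1 V1
  rw [cjg_subgroupOf, n0Tw_val,
    cjg_n0_neg chevD4 memD4 _ (nWordsGL_mem (F := K) chevD4 memD4 n0WordD4 n0Word_lt) n0_pos_amb]

section Amb

variable {K : Type*} [Field K]

/-- `n₀ x_{-p_i}(t) n₀⁻¹ ∈ X_{p_i}` -/
theorem n0_conj_neg_mem (i : ℕ) (hi : i < 4) (t : K) :
    nWordsGL chevD4 K n0WordD4 * xGL chevD4 K (chevD4.neg (chevD4.simple i)) t *
      (nWordsGL chevD4 K n0WordD4)⁻¹ ∈ chevD4.rootSubgroup K (chevD4.simple i) := by
  rw [← n0_simple_amb (K := K) i hi]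
  exact conj_mem_cjg (Aut.xGL_mem_rootSubgroup chevD4 memD4 _ t)

/-- `n₀⁻¹ x_{p_i}(t) n₀ ∈ X_{-p_i}` -/
theorem n0_conj_pos_mem (i : ℕ) (hi : i < 4) (t : K) :
    (nWordsGL chevD4 K n0WordD4)⁻¹ * xGL chevD4 K (chevD4.simple i) t *
      nWordsGL chevD4 K n0WordD4 ∈ chevD4.rootSubgroup K (chevD4.neg (chevD4.simple i)) := by
  have h := Aut.xGL_mem_rootSubgroup (F := K) chevD4 memD4 (chevD4.simple i) t
  rw [← n0_simple_amb (K := K) i hi, mem_cjg] at h
  exact h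

theorem rootSubgroup_le_list (P : List ℕ) (r : ℕ) (hr : r ∈ P) :
    chevD4.rootSubgroup K r ≤ listSubgroup chevD4 K P := by
  intro g hg
  obtain ⟨t, ht⟩ := mem_rootSubgroup chevD4 memD4 r _ hg
  apply Subgroup.subset_closure
  refine ⟨r, t, hr, ?_⟩
  rw [ht]
  exact xGL_val chevD4 _ (triOK_of_mem chevD4 memD4) r t

end Amb

section Fix

variable {K : Type*} [Field K] [Fintype K] {q : ℕ} (f : K ≃+* K) (hf : ∀ t, f t = t ^ q)

include hf in
/-- `n₀ X_{-a} n₀⁻¹ = X_a` in the ambient group -/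
theorem n0_YA (hK : Fintype.card K = q ^ 3) :
    cjg (nWordsGL chevD4 K n0WordD4) (YA f) = XA f := by
  have hle := twistedD4_le_FixD4 f hf hK
  have hn0 : nWordsGL chevD4 K n0WordD4 ∈ FixD4 f := by
    rw [← n0Tw_val f hf]
    exact hle (n0Tw f hf).2
  set n := nWordsGL chevD4 K n0WordD4 with hn
  ext x
  rw [mem_cjg, mem_YA, mem_XA]
  constructor
  · rintro ⟨t, ht⟩
    have hx : x = n * ya f t * n⁻¹ := by rw [← ht]; group
    apply fixJ_pos f x
    refine Subgroup.mem_inf.mpr ⟨?_, ?_⟩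
    · have e : x = (n * xGL chevD4 K 5 t * n⁻¹) * (n * xGL chevD4 K 10 (f t) * n⁻¹) *
          (n * xGL chevD4 K 11 (f (f t)) * n⁻¹) := by
        rw [hx]; unfold ya; group
      rw [e]
      refine mul_mem (mul_mem ?_ ?_) ?_
      · exact rootSubgroup_le_list [18, 13, 12] 18 (by decide) (n0_conj_neg_mem 0 (by decide) t)
      · exact rootSubgroup_le_list [18, 13, 12] 13 (by decide) (n0_conj_neg_mem 2 (by decide) (f t))
      · exact rootSubgroup_le_list [18, 13, 12] 12 (by decide) (n0_conj_neg_mem 3 (by decide) (f (f t)))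
    · rw [hx]
      exact mul_mem (mul_mem hn0 (hle (ya_mem f hf t))) (inv_mem hn0)
  · rintro ⟨t, rfl⟩
    apply fixJ_neg f hf hK
    refine Subgroup.mem_inf.mpr ⟨?_, ?_⟩
    · have e : n⁻¹ * xa f t * n = (n⁻¹ * xGL chevD4 K 18 t * n) * (n⁻¹ * xGL chevD4 K 13 (f t) * n) *
          (n⁻¹ * xGL chevD4 K 12 (f (f t)) * n) := by
        unfold xa; group
      rw [e]
      refine mul_mem (mul_mem ?_ ?_) ?_
      · exact rootSubgroup_le_list [5, 10, 11] 5 (by decide) (n0_conj_pos_mem 0 (by decide) t)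
      · exact rootSubgroup_le_list [5, 10, 11] 10 (by decide) (n0_conj_pos_mem 2 (by decide) (f t))
      · exact rootSubgroup_le_list [5, 10, 11] 11 (by decide) (n0_conj_pos_mem 3 (by decide) (f (f t)))
    · exact mul_mem (mul_mem (inv_mem hn0) (hle (xa_mem f hf t))) hn0

include hf in
/-- `n₀ X_{-b} n₀⁻¹ = X_b` in the ambient group -/
theorem n0_YB (hK : Fintype.card K = q ^ 3) :
    cjg (nWordsGL chevD4 K n0WordD4) (YB f) = XB f := by
  have hle := twistedD4_le_FixD4 f hf hK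
  have hn0 : nWordsGL chevD4 K n0WordD4 ∈ FixD4 f := by
    rw [← n0Tw_val f hf]
    exact hle (n0Tw f hf).2
  set n := nWordsGL chevD4 K n0WordD4 with hn
  ext x
  rw [mem_cjg, mem_YB, mem_XB]
  constructor
  · rintro ⟨u, hu, ht⟩
    have hx : x = n * xGL chevD4 K 9 u * n⁻¹ := by rw [← ht]; group
    apply fix2_pos f x
    refine Subgroup.mem_inf.mpr ⟨?_, ?_⟩
    · rw [hx]
      exact n0_conj_neg_mem 1 (by decide) u
    · rw [hx]
      exact mul_mem (mul_mem hn0 (hle (x2mD4_mem f hf u hu))) (inv_mem hn0)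
  · rintro ⟨u, hu, rfl⟩
    apply fix2_neg f
    refine Subgroup.mem_inf.mpr ⟨?_, ?_⟩
    · exact n0_conj_pos_mem 1 (by decide) u
    · exact mul_mem (mul_mem (inv_mem hn0) (hle (x2pD4_mem f hf u hu))) hn0

end Fix

/-- PIECE J: `n₀ X_{-i} n₀⁻¹ = X_i`
(`n₀` maps `X_{-p_j}` onto `X_{p_j}` for each simple root, so `n₀ x_{-a}(t) n₀⁻¹ ∈ X_{p₁}X_{p₃}X_{p₄} ∩ Fix σ = X_a`
by `fixJ_pos`; conversely with `n₀⁻¹` and `fixJ_neg`; same for `b` with `fix2_pos`, `fix2_neg`) -/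
theorem Xp_eq_D4 {K : Type*} [Field K] [Fintype K] {q : ℕ} (f : K ≃+* K) (hf : ∀ t, f t = t ^ q)
    (hq : IsPrimePow q) (hK : Fintype.card K = q ^ 3) (a : Fin 2) :
    cjg (n0Tw f hf) (XmTw f q a) = XpTw f q a := by
  unfold XmTw XpTw
  rw [cjg_subgroupOf, n0Tw_val]
  by_cases ha : a = 0
  · rw [if_pos ha, if_pos ha, n0_YA f hf hK]
  · rw [if_neg ha, if_neg ha, n0_YB f hf hK]

end Cfsg.Agent.Helper18.Tw
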