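import Cfsg.Agent.Helper18.Tw.D4Sub
import Cfsg.Agent.Helper19.Twist.Frob

/-!
Helper18 / twisted D4 automorphisms, PIECE F (opposite Sylow subgroups).
-/

set_option autoImplicit false
set_option maxRecDepth 100000

namespace Cfsg.Agent.Helper18.Tw

open Cfsg Cfsg.Lie Cfsg.Agent.Helper18 Cfsg.Agent.Helper18.Aut Cfsg.Agent.Helper19.Twist
  Cfsg.Agent.Helper19.Poinc Cfsg.Agent.Helper19.Cox Cfsg.Agent.S1081 Cfsg.Agent.Helper6
  Cfsg.Agent.Helper40.SL2Hom

/-- PIECE F: an element `n` of `N¹` with `n U¹ n⁻¹ ∩ U¹ = 1` has `n U¹ n⁻¹ = V¹`.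
Hint: it suffices (`cjg_pos_eq_neg`, `cjg_subgroupOf`) that `n U n⁻¹ ≤ V` in the ambient group, that is, that the
Weyl group element `w = theta n` sends every positive root to a negative one. `n` is `σ`-fixed, so `w` commutes
with the symmetry (`theta_isFix`). If `r > 0` and `w r > 0`, let `S ∈ ClD4` be the class of `r`: then `w s > 0`
for all `s ∈ S`; a nontrivial `x ∈ listSubgroup S ⊓ FixD4 f` (`card_class_D4`, `nontrivial_of_card`) lies in `G¹`
(`class_le_D4`) and `n x n⁻¹ ∈ U` (`conj_rep`, `conj_listSubgroup_le`): contradiction. -/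
theorem opp_D4 {K : Type*} [Field K] [Fintype K] {q : ℕ} (hq : IsPrimePow q) (hK : Fintype.card K = q ^ 3)
    (n : ↥(twistedD4 K q)) (hn : (n : GL chevD4.Idx K) ∈ chevD4.monomialSubgroup K)
    (h : cjg n (U1 K q) ⊓ U1 K q = ⊥) : cjg n (U1 K q) = V1 K q := by
  obtain ⟨f, hf⟩ := exists_frob hq hK
  have hq1 : 1 ≤ q := hq.one_lt.le
  have hq2 : 2 ≤ q := hq.two_le
  have hpos := posOK_of_mem chevD4 memD4
  have htri := triOK_of_mem chevD4 memD4
  set nN : ↥(chevD4.monomialSubgroup K) := ⟨(n : GL chevD4.Idx K), hn⟩ with hnN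
  set w := theta chevD4 memD4 Cfsg.Agent.Helper19.Poinc.certD4 h31D4 nN with hw
  have hfixn : sigD4 f (n : GL chevD4.Idx K) = n := (mem_FixD4 f _).mp (twistedD4_le_FixD4 f hf hK n.2)
  have hIsFix : IsFix Cfsg.Agent.Helper19.Poinc.certD4 pi1 w :=
    theta_isFix chevD4 memD4 Cfsg.Agent.Helper19.Poinc.certD4 h31D4 rho1 rhoInv1 pi1 piInv1 eps1 permsOK_D4 f
      allOK1 rootInjOK_D4 nN hfixn
  have hspec := theta_spec chevD4 memD4 Cfsg.Agent.Helper19.Poinc.certD4 h31D4 nN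
  have hrep := conj_rep chevD4 memD4 Cfsg.Agent.Helper19.Poinc.certD4 h31D4 w nN hspec
  set φ := phi Cfsg.Agent.Helper19.Poinc.certD4.M Cfsg.Agent.Helper19.Poinc.certD4.Mx
    Cfsg.Agent.Helper19.Poinc.certD4.hI Cfsg.Agent.Helper19.Poinc.certD4.hB
    Cfsg.Agent.Helper19.Poinc.certD4.hMx w with hφ
  have hφlt : ∀ s < chevD4.nroots, φ s < chevD4.nroots := fun s hs => (hrep s hs 0).1
  have hπpos : ∀ r < chevD4.nroots, hlfOf chevD4 ≤ r → hlfOf chevD4 ≤ pi1 r ∧ pi1 r < chevD4.nroots := by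
    decide
  -- every positive root goes to a negative root
  have hclaim : ∀ r, chevD4.IsPosRoot r → chevD4.IsNegRoot (φ r) := by
    intro r hr
    have hr' := (isPosRoot_iff chevD4 _ hpos r).mp hr
    rcases pos_or_neg chevD4 memD4 _ (hφlt r hr'.2) with hp | hq'
    swap
    · exact hq'
    exfalso
    have hp' := (isPosRoot_iff chevD4 _ hpos _).mp hp
    obtain ⟨S, hS, hrS⟩ := List.mem_flatten.mp ((mem_ClD4_iff r).mpr hr)
    have horb : ∀ S ∈ ClD4, ∀ r ∈ S, ∀ s ∈ S, s = r ∨ s = pi1 r ∨ s = pi1 (pi1 r) := by decide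
    have hSpos : ∀ s ∈ S, hlfOf chevD4 ≤ s ∧ s < chevD4.nroots := by
      intro s hs
      exact (isPosRoot_iff chevD4 _ hpos s).mp ((mem_ClD4_iff s).mp (List.mem_flatten.mpr ⟨S, hS, hs⟩))
    -- the images of the roots of the class are positive
    have himg : ∀ s ∈ S, hlfOf chevD4 ≤ φ s ∧ φ s < chevD4.nroots := by
      intro s hs
      rcases horb S hS r hrS s hs with rfl | rfl | rfl
      · exact hp'
      · rw [hIsFix r hr'.2]
        exact hπpos _ hp'.2 hp'.1
      · have h1 := hπpos r hr'.2 hr'.1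
        rw [hIsFix (pi1 r) h1.2, hIsFix r hr'.2]
        have h2 := hπpos _ hp'.2 hp'.1
        exact hπpos _ h2.2 h2.1
    -- a nontrivial fixed element of the class
    have hc := card_class_D4 f hf hq1 hK S hS
    have hlen : 1 ≤ S.length := by
      cases S with
      | nil => simp at hrS
      | cons a l => simp
    obtain ⟨x, hx, hne⟩ := nontrivial_of_card _ (m := q ^ S.length)
      (le_trans hq2 (Nat.le_self_pow (by omega) q)) hc
    have hxG : x ∈ twistedD4 K q := class_le_D4 f hf h31D4 hq1 hK S hS hx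
    have hlistU : ∀ L : List ℕ, (∀ s ∈ L, hlfOf chevD4 ≤ s ∧ s < chevD4.nroots) →
        listSubgroup chevD4 K L ≤ chevD4.posUnipotent K := by
      intro L hL
      unfold listSubgroup ChevalleyDatum.posUnipotent
      apply Subgroup.closure_mono
      rintro g ⟨s, t, hs, hg⟩
      exact ⟨s, t, (isPosRoot_iff chevD4 _ hpos s).mpr (hL s hs), hg⟩
    have hxU : x ∈ chevD4.posUnipotent K := hlistU S hSpos hx.1
    have hconj := conj_listSubgroup_le (K := K) memD4 Cfsg.Agent.Helper19.Poinc.certD4 h31D4 nN S (S.map φ)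
      (fun s hs => (hSpos s hs).2) (fun s hs => List.mem_map.mpr ⟨s, hs, rfl⟩)
    have hyU : (n : GL chevD4.Idx K) * x * (n : GL chevD4.Idx K)⁻¹ ∈ chevD4.posUnipotent K := by
      apply hlistU (S.map φ)
      · intro s' hs'
        obtain ⟨s, hs, rfl⟩ := List.mem_map.mp hs'
        exact himg s hs
      · apply hconj
        exact ⟨x, hx.1, rfl⟩
    have hy : n * (⟨x, hxG⟩ : ↥(twistedD4 K q)) * n⁻¹ ∈ cjg n (U1 K q) ⊓ U1 K q := by
      refine Subgroup.mem_inf.mpr ⟨conj_mem_cjg (Subgroup.mem_subgroupOf.mpr hxU), ?_⟩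
      exact Subgroup.mem_subgroupOf.mpr hyU
    rw [h, Subgroup.mem_bot] at hy
    apply hne
    have h1 : (⟨x, hxG⟩ : ↥(twistedD4 K q)) = n⁻¹ * (n * ⟨x, hxG⟩ * n⁻¹) * n := by group
    rw [hy] at h1
    have h2 : (⟨x, hxG⟩ : ↥(twistedD4 K q)) = 1 := by rw [h1]; group
    exact congrArg Subtype.val h2
  -- so `n U n⁻¹ ≤ V`
  have hle : cjg (n : GL chevD4.Idx K) (chevD4.posUnipotent K) ≤ chevD4.negUnipotent K := by
    unfold cjg
    rw [Subgroup.map_le_iff_le_comap]
    conv_lhs => unfold ChevalleyDatum.posUnipotent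
    rw [Subgroup.closure_le]
    rintro g ⟨r, t, hr, hg⟩
    have hr' := (isPosRoot_iff chevD4 _ hpos r).mp hr
    have e : g = xGL chevD4 K r t := Units.ext (by rw [hg, xGL_val chevD4 _ htri])
    rw [SetLike.mem_coe, Subgroup.mem_comap]
    show (n : GL chevD4.Idx K) * g * (n : GL chevD4.Idx K)⁻¹ ∈ _
    obtain ⟨-, t', ht'⟩ := hrep r hr'.2 t
    rw [e, ht']
    exact rootSubgroup_le_neg chevD4 _ (hclaim r hr) (Cfsg.Agent.Helper18.Aut.xGL_mem_rootSubgroup chevD4 memD4 _ _)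
  have hdis : cjg (n : GL chevD4.Idx K) (chevD4.posUnipotent K) ⊓ chevD4.posUnipotent K = ⊥ := by
    apply le_antisymm _ bot_le
    rw [← pos_inf_neg' (F := K) chevD4 memD4, inf_comm]
    exact inf_le_inf_left _ hle
  unfold U1 V1
  rw [cjg_subgroupOf, cjg_pos_eq_neg chevD4 memD4 _ hn hdis]

end Cfsg.Agent.Helper18.Tw
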