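import Cfsg.Agent.Helper18.Tw.P_Fix

/-!
Helper18 / twisted D4 automorphisms, PIECE I (the rank one parabolic subgroups).
-/

set_option autoImplicit false
set_option maxRecDepth 100000

namespace Cfsg.Agent.Helper18.Tw

open Cfsg Cfsg.Lie Cfsg.Agent.Helper18 Cfsg.Agent.Helper18.Aut Cfsg.Agent.Helper19.Twist
  Cfsg.Agent.Helper19.Poinc Cfsg.Agent.Helper19.Cox Cfsg.Agent.S1081 Cfsg.Agent.Helper6
  Cfsg.Agent.Helper40.SL2Hom

theorem paraAux_roots0 : ∀ r < 24, 12 ≤ r →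
    actW reflTabsD4 4 24 [0, 2, 3] r < 12 → r = 18 ∨ r = 13 ∨ r = 12 := by
  decide +kernel

theorem paraAux_roots1 : ∀ r < 24, 12 ≤ r →
    actW reflTabsD4 4 24 [1] r < 12 → r = 14 := by
  decide +kernel

theorem paraAux_UnegW0 {K : Type*} [Field K] :
    UnegW chevD4 Cfsg.Agent.Helper19.Poinc.certD4 K (gp Cfsg.Agent.Helper19.Poinc.certD4.M [0, 2, 3]) ≤
      listSubgroup chevD4 K [18, 13, 12] := by
  unfold UnegW
  rw [Subgroup.closure_le]
  rintro x ⟨r, t, ⟨hr1, hr2⟩, hphi, rfl⟩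
  rw [phi_gp] at hphi
  have h := paraAux_roots0 r hr2 hr1 hphi
  apply Subgroup.subset_closure
  refine ⟨r, t, ?_, xGL_val chevD4 _ (triOK_of_mem chevD4 memD4) r t⟩
  rcases h with rfl | rfl | rfl <;> simp

theorem paraAux_UnegW1 {K : Type*} [Field K] :
    UnegW chevD4 Cfsg.Agent.Helper19.Poinc.certD4 K (gp Cfsg.Agent.Helper19.Poinc.certD4.M [1]) ≤
      chevD4.rootSubgroup K 14 := by
  unfold UnegW
  rw [Subgroup.closure_le]
  rintro x ⟨r, t, ⟨hr1, hr2⟩, hphi, rfl⟩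
  rw [phi_gp] at hphi
  have h := paraAux_roots1 r hr2 hr1 hphi
  subst h
  exact Cfsg.Agent.Helper18.Aut.xGL_mem_rootSubgroup chevD4 memD4 14 t

/-- the rank one relation `n x(t) = x(-t⁻¹) h(-t⁻¹) y(t⁻¹)` -/
theorem paraAux_rank_one {F Γ : Type*} [Field F] [Group Γ] {x y : F → Γ} (R : Rel x y) (t : F) (ht : t ≠ 0) :
    w x y 1 * x t = x (-t⁻¹) * h x y (-t⁻¹) * y t⁻¹ := by
  have h1 := R.n_x_n t ht
  have h2 := R.conj 1 (-t⁻¹) one_ne_zero
  have e : -((1 : F)⁻¹ * 1⁻¹ * -t⁻¹) = t⁻¹ := by simp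
  rw [e] at h2
  calc w x y 1 * x t = (w x y 1 * x t * w x y 1) * (w x y 1)⁻¹ := by group
    _ = x (-t⁻¹) * h x y (-t⁻¹) * (w x y 1 * x (-t⁻¹) * (w x y 1)⁻¹) := by rw [h1]; group
    _ = _ := by rw [h2]

/-- the abstract end of the argument -/
theorem paraAux_endgame {F Γ : Type*} [Field F] [Group Γ] {x y : F → Γ} (R : Rel x y) (G1 Bo : Subgroup Γ)
    (hx : ∀ t, x t ∈ Bo) (hh : ∀ t, t ≠ 0 → h x y t ∈ Bo) (hn : w x y 1 ∈ G1)
    (g b : Γ) (hg : g ∈ G1) (hb : b ∈ Bo) (t : F) (hy : y t⁻¹ ∈ G1) (e : g = b * w x y 1 * x t) :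
    (∃ b' ∈ Bo ⊓ G1, g = b' * w x y 1) ∨ (∃ b' ∈ Bo ⊓ G1, g = b' * y t⁻¹) := by
  by_cases ht : t = 0
  · left
    subst ht
    rw [R.x_zero, mul_one] at e
    refine ⟨b, Subgroup.mem_inf.mpr ⟨hb, ?_⟩, e⟩
    have : b = g * (w x y 1)⁻¹ := by rw [e]; group
    rw [this]
    exact Subgroup.mul_mem _ hg (Subgroup.inv_mem _ hn)
  · right
    have e2 : g = b * x (-t⁻¹) * h x y (-t⁻¹) * y t⁻¹ := by
      rw [e, mul_assoc b, paraAux_rank_one R t ht]; group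
    have hne : -t⁻¹ ≠ 0 := neg_ne_zero.mpr (inv_ne_zero ht)
    refine ⟨b * x (-t⁻¹) * h x y (-t⁻¹), Subgroup.mem_inf.mpr ⟨Subgroup.mul_mem _ (Subgroup.mul_mem _ hb (hx _)) (hh _ hne), ?_⟩, e2⟩
    have : b * x (-t⁻¹) * h x y (-t⁻¹) = g * (y t⁻¹)⁻¹ := by rw [e2]; group
    rw [this]
    exact Subgroup.mul_mem _ hg (Subgroup.inv_mem _ hy)

theorem paraAux_xa_borel {K : Type*} [Field K] (f : K ≃+* K) (t : K) : xa f t ∈ chevD4.borelSubgroup K := by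
  apply Cfsg.Agent.Helper18.posUnipotent_le_borel chevD4 memD4
  unfold xa
  exact mul_mem (mul_mem (Cfsg.Agent.Helper18.xGL_mem_posUnipotent chevD4 memD4 18 (by decide) _)
    (Cfsg.Agent.Helper18.xGL_mem_posUnipotent chevD4 memD4 13 (by decide) _))
    (Cfsg.Agent.Helper18.xGL_mem_posUnipotent chevD4 memD4 12 (by decide) _)

theorem paraAux_ha_borel {K : Type*} [Field K] (f : K ≃+* K) (t : K) (ht : t ≠ 0) :
    h (xa f) (ya f) t ∈ chevD4.borelSubgroup K := by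
  apply Cfsg.Agent.Helper18.diagonal_le_borel chevD4 memD4
  rw [h_a_eq f t ht]
  have h1 : f t ≠ 0 := by simpa using ht
  have h2 : f (f t) ≠ 0 := by simpa using h1
  exact mul_mem (mul_mem (hG_mem chevD4 memD4 18 (by decide) t ht) (hG_mem chevD4 memD4 13 (by decide) _ h1))
    (hG_mem chevD4 memD4 12 (by decide) _ h2)

theorem paraAux_hb_borel {K : Type*} [Field K] (t : K) (ht : t ≠ 0) :
    h (xGL chevD4 K 14) (xGL chevD4 K 9) t ∈ chevD4.borelSubgroup K := by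
  apply Cfsg.Agent.Helper18.diagonal_le_borel chevD4 memD4
  rw [h_b_eq t ht]
  exact hG_mem chevD4 memD4 14 (by decide) t ht

/-- the ambient form of the rank one decomposition -/
theorem paraAux_ambient {K : Type*} [Field K] [Fintype K] {q : ℕ} (f : K ≃+* K) (hf : ∀ t, f t = t ^ q)
    (hK : Fintype.card K = q ^ 3) (a : Fin 2) (g b1 b2 : GL chevD4.Idx K) (hg : g ∈ twistedD4 K q)
    (hb1 : b1 ∈ chevD4.borelSubgroup K) (hb2 : b2 ∈ chevD4.borelSubgroup K)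
    (e : g = b1 * ((sTw f hf a : ↥(twistedD4 K q)) : GL chevD4.Idx K) * b2) :
    (∃ b ∈ chevD4.borelSubgroup K ⊓ twistedD4 K q, g = b * ((sTw f hf a : ↥(twistedD4 K q)) : GL chevD4.Idx K)) ∨
    (∃ b ∈ chevD4.borelSubgroup K ⊓ twistedD4 K q, ∃ y ∈ (if a = 0 then YA f else YB f), g = b * y) := by
  have hs_coe : ((sTw f hf a : ↥(twistedD4 K q)) : GL chevD4.Idx K) =
      ((repGenD4 K a.val : ↥(chevD4.monomialSubgroup K)) : GL chevD4.Idx K) := rfl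
  have hgdc : g ∈ DCgl chevD4 memD4 Cfsg.Agent.Helper19.Poinc.certD4 h31D4
      (theta chevD4 memD4 Cfsg.Agent.Helper19.Poinc.certD4 h31D4 (repGenD4 K a.val)) :=
    ⟨repGenD4 K a.val, theta_spec chevD4 memD4 Cfsg.Agent.Helper19.Poinc.certD4 h31D4 _,
      DoubleCoset.mem_doubleCoset.mpr ⟨b1, hb1, b2, hb2, by rw [e, hs_coe]⟩⟩
  have hgG : g ∈ chevD4.group K := genSubgroup_le_group memD4 _ hg
  have hgfix : sigmaGL chevD4 rho1 rhoInv1 pi1 piInv1 eps1 permsOK_D4 f g = g := twistedD4_le_FixD4 f hf hK hg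
  obtain ⟨w₀, hgw, -, hform⟩ := fixed_normal_form_dc chevD4 memD4 Cfsg.Agent.Helper19.Poinc.certD4 h31D4 rho1 rhoInv1
    pi1 piInv1 eps1 permsOK_D4 f allOK1 twistOK_D4 isoOK_D4 rootInjOK_D4 h42D4 h45D4 g hgG hgfix
  have hw := DCgl_disjoint chevD4 memD4 Cfsg.Agent.Helper19.Poinc.certD4 h31D4 h42D4 _ _ _ hgw hgdc
  obtain ⟨b, hb, u, hu, e2⟩ := hform (repGenD4 K a.val) hw.symm
    (twistedD4_le_FixD4 f hf hK (repGenD4_mem f hf a.val))
  rw [hw, theta_repGenD4 h31D4 a.val a.2] at hu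
  rw [← hs_coe] at e2
  have ha : a = 0 ∨ a = 1 := by
    rcases a with ⟨a, ha⟩
    interval_cases a
    · left; rfl
    · right; rfl
  rcases ha with rfl | rfl
  · -- the long class
    have hJ : JD4 ((0 : Fin 2) : ℕ) = [0, 2, 3] := rfl
    rw [hJ] at hu
    obtain ⟨t, rfl⟩ := fixJ_pos f u ⟨paraAux_UnegW0 hu.1, hu.2⟩
    rw [sTw0_eq f hf] at e2 ⊢
    have hn : w (xa f) (ya f) 1 ∈ twistedD4 K q := by
      rw [← sTw0_eq f hf]; exact (sTw f hf 0).2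
    rcases paraAux_endgame (rel_a f) (twistedD4 K q) (chevD4.borelSubgroup K) (paraAux_xa_borel f)
      (paraAux_ha_borel f) hn g b hg hb.1 t (ya_mem f hf _) e2 with h1 | ⟨b', hb', e3⟩
    · left; exact h1
    · right
      refine ⟨b', hb', ya f t⁻¹, ?_, e3⟩
      rw [if_pos rfl]
      exact (mem_YA f _).mpr ⟨_, rfl⟩
  · -- the short class
    have hJ : JD4 ((1 : Fin 2) : ℕ) = [1] := rfl
    rw [hJ] at hu
    obtain ⟨t, ht, rfl⟩ := fix2_pos f u ⟨paraAux_UnegW1 hu.1, hu.2⟩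
    rw [sTw1_eq f hf] at e2 ⊢
    have hn : w (xGL chevD4 K 14) (xGL chevD4 K 9) 1 ∈ twistedD4 K q := by
      rw [← sTw1_eq f hf]; exact (sTw f hf 1).2
    have ht' : f t⁻¹ = t⁻¹ := by rw [map_inv₀, ht]
    rcases paraAux_endgame (rel18 (K := K) 14 (by decide)) (twistedD4 K q) (chevD4.borelSubgroup K)
      (fun s => Cfsg.Agent.Helper18.posUnipotent_le_borel chevD4 memD4
        (Cfsg.Agent.Helper18.xGL_mem_posUnipotent chevD4 memD4 14 (by decide) s))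
      paraAux_hb_borel hn g b hg hb.1 t (x2mD4_mem f hf _ ht') e2 with h1 | ⟨b', hb', e3⟩
    · left; exact h1
    · right
      refine ⟨b', hb', xGL chevD4 K 9 t⁻¹, ?_, e3⟩
      rw [if_neg (by decide)]
      exact (mem_YB f _).mpr ⟨_, ht', rfl⟩

/-- PIECE I: the rank one decomposition `P_i = B ∪ B s_i ∪ B X_{-i}`.
Hint: `parabolic_singleton`: `g ∈ B¹` or `g ∈ B¹ s_i B¹`. In the second case `g` lies in the ambient double coset
`DCgl (theta s_i)`; by `fixed_normal_form_dc` (+ `DCgl_disjoint`) `g = b s_i u` with `u ∈ UnegW (theta s_i) ⊓ Fix`,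
and `UnegW (theta s_a) = X_{p₁}X_{p₃}X_{p₄}` (`theta_repGenD4`, `phi_gp`, `decide`), so `u = x_a(t)` by `fixJ_pos`
(`u = x_b(t)` by `fix2_pos`). If `t = 0`: second alternative. Otherwise by the rank one relations
(`rel_a`, `sTw0_eq`) `s_a x_a(t) = x_a(-t⁻¹) h_a(-t⁻¹) x_{-a}(t⁻¹)`, and `x_a(..) h_a(..) ∈ B ∩ G¹` (`h_a_eq`, `hG_mem`).
(Proof: helper53.) -/
theorem para_D4 {K : Type*} [Field K] [Fintype K] {q : ℕ} (f : K ≃+* K) (hf : ∀ t, f t = t ^ q)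
    (hq : IsPrimePow q) (hK : Fintype.card K = q ^ 3) (P : BNPair ↥(twistedD4 K q))
    (hB : P.B = (chevD4.borelSubgroup K ⊓ twistedD4 K q).subgroupOf (twistedD4 K q))
    (hN : P.N = (chevD4.monomialSubgroup K ⊓ twistedD4 K q).subgroupOf (twistedD4 K q))
    (hS : P.S = Set.range (sTw f hf)) (a : Fin 2) (g : ↥(twistedD4 K q)) (hg : g ∈ P.parabolic {sTw f hf a}) :
    g ∈ P.B ∨ (∃ b ∈ P.B, g = b * sTw f hf a) ∨ (∃ b ∈ P.B, ∃ y ∈ XmTw f q a, g = b * y) := by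
  have hsS : sTw f hf a ∈ P.S := by rw [hS]; exact ⟨a, rfl⟩
  have hpar := parabolic_singleton (P := P) hsS
  have hg' : g ∈ (P.B : Set ↥(twistedD4 K q)) ∪ dc P (sTw f hf a) := by rw [← hpar]; exact hg
  rcases hg' with hgB | hgdc
  · left; exact hgB
  right
  obtain ⟨b1, hb1, b2, hb2, e⟩ := (mem_dc P).mp hgdc
  rw [hB, Subgroup.mem_subgroupOf] at hb1 hb2
  have e' : (g : GL chevD4.Idx K) = b1 * ((sTw f hf a : ↥(twistedD4 K q)) : GL chevD4.Idx K) * b2 := by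
    rw [e]; rfl
  rcases paraAux_ambient f hf hK a g b1 b2 g.2 hb1.1 hb2.1 e' with ⟨b, hb, e2⟩ | ⟨b, hb, y, hy, e2⟩
  · left
    refine ⟨⟨b, hb.2⟩, ?_, Subtype.ext e2⟩
    rw [hB, Subgroup.mem_subgroupOf]
    exact hb
  · right
    have hyG : y ∈ twistedD4 K q := by
      split_ifs at hy
      · exact YA_le f hf hy
      · exact YB_le f hf hy
    refine ⟨⟨b, hb.2⟩, ?_, ⟨y, hyG⟩, ?_, Subtype.ext e2⟩
    · rw [hB, Subgroup.mem_subgroupOf]
      exact hb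
    · unfold XmTw
      rw [Subgroup.mem_subgroupOf]
      exact hy

end Cfsg.Agent.Helper18.Tw
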