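import Cfsg.Agent.Helper18.Tw.P_Fix

/-!
Helper18 / twisted D4 automorphisms, PIECE S (small facts on the fundamental root subgroups of `G¹`).
All of them follow from `rel_a`, `sTw0_eq`, `sTw1_eq` (file `P_Rel`), `rel18 14`, and `U ∩ V = 1`.
(Proofs: helper4.)
-/

set_option autoImplicit false
set_option maxRecDepth 100000

namespace Cfsg.Agent.Helper18.Tw

open Cfsg Cfsg.Lie Cfsg.Agent.Helper18 Cfsg.Agent.Helper18.Aut Cfsg.Agent.Helper19.Twist
  Cfsg.Agent.Helper19.Poinc Cfsg.Agent.Helper19.Cox Cfsg.Agent.S1081 Cfsg.Agent.Helper6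
  Cfsg.Agent.Helper40.SL2Hom

section SMaux

variable {K : Type*} [Field K]

theorem SM_neg_mem (k : ℕ) (hk : chevD4.IsNegRoot k) (t : K) :
    xGL chevD4 K k t ∈ chevD4.negUnipotent K := by
  apply Subgroup.subset_closure
  exact ⟨k, t, hk, xGL_val chevD4 _ (triOK_of_mem chevD4 memD4) k t⟩

theorem SM_pos_mem (k : ℕ) (hk : chevD4.IsPosRoot k) (t : K) :
    xGL chevD4 K k t ∈ chevD4.posUnipotent K := by
  apply Subgroup.subset_closure
  exact ⟨k, t, hk, xGL_val chevD4 _ (triOK_of_mem chevD4 memD4) k t⟩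

theorem SM_ya_mem_neg (f : K ≃+* K) (u : K) : ya f u ∈ chevD4.negUnipotent K := by
  unfold ya
  exact mul_mem (mul_mem (SM_neg_mem 5 (by decide) _) (SM_neg_mem 10 (by decide) _)) (SM_neg_mem 11 (by decide) _)

theorem SM_xa_mem_pos (f : K ≃+* K) (u : K) : xa f u ∈ chevD4.posUnipotent K := by
  unfold xa
  exact mul_mem (mul_mem (SM_pos_mem 18 (by decide) _) (SM_pos_mem 13 (by decide) _)) (SM_pos_mem 12 (by decide) _)

/-- `s_a x_a(t) s_a⁻¹ = x_{-a}(-t)` -/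
theorem SM_conj_a (f : K ≃+* K) (t : K) :
    w (xa f) (ya f) 1 * xa f t * (w (xa f) (ya f) 1)⁻¹ = ya f (-t) := by
  have := (rel_a f).conj 1 t one_ne_zero
  rwa [_root_.inv_one, one_mul, one_mul] at this

/-- `s_b x_b(t) s_b⁻¹ = x_{-b}(-t)` -/
theorem SM_conj_b (t : K) :
    w (xGL chevD4 K 14) (xGL chevD4 K 9) 1 * xGL chevD4 K 14 t * (w (xGL chevD4 K 14) (xGL chevD4 K 9) 1)⁻¹ =
      xGL chevD4 K 9 (-t) := by
  have := (RE_rel14 (K := K)).conj 1 t one_ne_zero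
  rwa [_root_.inv_one, one_mul, one_mul] at this

/-- the elements of `X_a`, `X_b` in `G¹` -/
theorem SM_mem_Xp0 {q : ℕ} (f : K ≃+* K) (x : ↥(twistedD4 K q)) :
    x ∈ XpTw f q 0 ↔ ∃ t, (x : GL chevD4.Idx K) = xa f t := by
  unfold XpTw
  rw [if_pos rfl, Subgroup.mem_subgroupOf, mem_XA]

theorem SM_mem_Xp1 {q : ℕ} (f : K ≃+* K) (x : ↥(twistedD4 K q)) :
    x ∈ XpTw f q 1 ↔ ∃ u, f u = u ∧ (x : GL chevD4.Idx K) = xGL chevD4 K 14 u := by
  unfold XpTw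
  rw [if_neg (by decide), Subgroup.mem_subgroupOf, mem_XB]

theorem SM_mem_Xm0 {q : ℕ} (f : K ≃+* K) (x : ↥(twistedD4 K q)) :
    x ∈ XmTw f q 0 ↔ ∃ t, (x : GL chevD4.Idx K) = ya f t := by
  unfold XmTw
  rw [if_pos rfl, Subgroup.mem_subgroupOf, mem_YA]

theorem SM_mem_Xm1 {q : ℕ} (f : K ≃+* K) (x : ↥(twistedD4 K q)) :
    x ∈ XmTw f q 1 ↔ ∃ u, f u = u ∧ (x : GL chevD4.Idx K) = xGL chevD4 K 9 u := by
  unfold XmTw
  rw [if_neg (by decide), Subgroup.mem_subgroupOf, mem_YB]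

end SMaux

/-- PIECE D: the distinguished generators do not normalise `U¹`
(`s_a x_a(1) s_a⁻¹ = x_{-a}(-1)` by `Rel.conj` and `sTw0_eq`; it lies in `V`, is not `1`, and `U ∩ V = 1`) -/
theorem s_not_norm_D4 {K : Type*} [Field K] [Fintype K] {q : ℕ} (f : K ≃+* K) (hf : ∀ t, f t = t ^ q)
    (a : Fin 2) : cjg (sTw f hf a) (U1 K q) ≠ U1 K q := by
  intro hEq
  -- a general principle: if `x ∈ U`, `s x s⁻¹ ∈ V` then `s x s⁻¹ = 1`
  have key : ∀ (x : ↥(twistedD4 K q)), (x : GL chevD4.Idx K) ∈ chevD4.posUnipotent K →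
      ((sTw f hf a : ↥(twistedD4 K q)) : GL chevD4.Idx K) * x *
        ((sTw f hf a : ↥(twistedD4 K q)) : GL chevD4.Idx K)⁻¹ ∈ chevD4.negUnipotent K →
      ((sTw f hf a : ↥(twistedD4 K q)) : GL chevD4.Idx K) * x *
        ((sTw f hf a : ↥(twistedD4 K q)) : GL chevD4.Idx K)⁻¹ = 1 := by
    intro x hxU hV
    have h1 : sTw f hf a * x * (sTw f hf a)⁻¹ ∈ cjg (sTw f hf a) (U1 K q) := by
      rw [mem_cjg]
      have : (sTw f hf a)⁻¹ * (sTw f hf a * x * (sTw f hf a)⁻¹) * sTw f hf a = x := by group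
      rw [this]
      exact Subgroup.mem_subgroupOf.mpr hxU
    rw [hEq] at h1
    have h2 : ((sTw f hf a * x * (sTw f hf a)⁻¹ : ↥(twistedD4 K q)) : GL chevD4.Idx K) ∈
        chevD4.posUnipotent K := Subgroup.mem_subgroupOf.mp h1
    have h3 : ((sTw f hf a : ↥(twistedD4 K q)) : GL chevD4.Idx K) * x *
        ((sTw f hf a : ↥(twistedD4 K q)) : GL chevD4.Idx K)⁻¹ ∈
        chevD4.posUnipotent K ⊓ chevD4.negUnipotent K := ⟨h2, hV⟩
    rw [pos_inf_neg' (F := K) chevD4 memD4, Subgroup.mem_bot] at h3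
    exact h3
  fin_cases a
  · have h1 := key (⟨xa f 1, xa_mem f hf 1⟩ : ↥(twistedD4 K q)) (SM_xa_mem_pos f 1) (by
      show ((sTw f hf 0 : ↥(twistedD4 K q)) : GL chevD4.Idx K) * xa f 1 *
        ((sTw f hf 0 : ↥(twistedD4 K q)) : GL chevD4.Idx K)⁻¹ ∈ _
      rw [sTw0_eq, SM_conj_a]
      exact SM_ya_mem_neg f _)
    have h2 : ((sTw f hf 0 : ↥(twistedD4 K q)) : GL chevD4.Idx K) * xa f 1 *
        ((sTw f hf 0 : ↥(twistedD4 K q)) : GL chevD4.Idx K)⁻¹ = 1 := h1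
    rw [sTw0_eq, SM_conj_a, ← ya_zero f] at h2
    have h3 := ya_inj f h2
    exact one_ne_zero (neg_eq_zero.mp h3)
  · have h1 := key (⟨xGL chevD4 K 14 1, x2pD4_mem f hf 1 (map_one f)⟩ : ↥(twistedD4 K q))
      (SM_pos_mem 14 (by decide) 1) (by
      show ((sTw f hf 1 : ↥(twistedD4 K q)) : GL chevD4.Idx K) * xGL chevD4 K 14 1 *
        ((sTw f hf 1 : ↥(twistedD4 K q)) : GL chevD4.Idx K)⁻¹ ∈ _
      rw [sTw1_eq, SM_conj_b]
      exact SM_neg_mem 9 (by decide) _)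
    have h2 : ((sTw f hf 1 : ↥(twistedD4 K q)) : GL chevD4.Idx K) * xGL chevD4 K 14 1 *
        ((sTw f hf 1 : ↥(twistedD4 K q)) : GL chevD4.Idx K)⁻¹ = 1 := h1
    rw [sTw1_eq, SM_conj_b, ← (RE_rel14 (K := K)).y_zero] at h2
    have h3 := xGL_injective chevD4 memD4 9 (by decide) h2
    exact one_ne_zero (neg_eq_zero.mp h3)

/-- PIECE H1: `X_{-a}, X_{-b} ≤ V¹` -/
theorem Xm_le_V_D4 {K : Type*} [Field K] {q : ℕ} (f : K ≃+* K) (a : Fin 2) : XmTw f q a ≤ V1 K q := by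
  intro x hx
  unfold V1
  rw [Subgroup.mem_subgroupOf]
  fin_cases a
  · obtain ⟨t, ht⟩ := (SM_mem_Xm0 f x).mp hx
    rw [ht]
    exact SM_ya_mem_neg f t
  · obtain ⟨u, -, hu⟩ := (SM_mem_Xm1 f x).mp hx
    rw [hu]
    exact SM_neg_mem 9 (by decide) u

/-- PIECE H2: `X_{-i}` lies in the minimal parabolic `P_i`
(`x_{-a}(t) = s_a x_a(-t) s_a⁻¹`, `x_a(-t) ∈ B`; `B_le_parabolic`, `closure_le_parabolic` as in `chev_L1Hyp`) -/
theorem Xm_le_P_D4 {K : Type*} [Field K] [Fintype K] {q : ℕ} (f : K ≃+* K) (hf : ∀ t, f t = t ^ q)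
    (P : BNPair ↥(twistedD4 K q))
    (hB : P.B = (chevD4.borelSubgroup K ⊓ twistedD4 K q).subgroupOf (twistedD4 K q)) (a : Fin 2) :
    XmTw f q a ≤ P.parabolic {sTw f hf a} := by
  intro x hx
  have hs : sTw f hf a ∈ P.parabolic {sTw f hf a} :=
    closure_le_parabolic P _ (Subgroup.subset_closure (Set.mem_singleton _))
  have hBmem : ∀ b : ↥(twistedD4 K q), (b : GL chevD4.Idx K) ∈ chevD4.posUnipotent K →
      b ∈ P.parabolic {sTw f hf a} := by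
    intro b hb
    apply B_le_parabolic P _
    rw [hB, Subgroup.mem_subgroupOf]
    exact ⟨posUnipotent_le_borel chevD4 memD4 hb, b.2⟩
  fin_cases a
  · obtain ⟨t, ht⟩ := (SM_mem_Xm0 f x).mp hx
    have e : x = sTw f hf 0 * (⟨xa f (-t), xa_mem f hf (-t)⟩ : ↥(twistedD4 K q)) * (sTw f hf 0)⁻¹ := by
      apply Subtype.ext
      rw [Subgroup.coe_mul, Subgroup.coe_mul, Subgroup.coe_inv, sTw0_eq, ht]
      show ya f t = w (xa f) (ya f) 1 * xa f (-t) * (w (xa f) (ya f) 1)⁻¹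
      rw [SM_conj_a, neg_neg]
    rw [e]
    exact mul_mem (mul_mem hs (hBmem _ (SM_xa_mem_pos f _))) (inv_mem hs)
  · obtain ⟨u, hu, hxu⟩ := (SM_mem_Xm1 f x).mp hx
    have e : x = sTw f hf 1 * (⟨xGL chevD4 K 14 (-u), x2pD4_mem f hf (-u) (by rw [map_neg, hu])⟩ :
        ↥(twistedD4 K q)) * (sTw f hf 1)⁻¹ := by
      apply Subtype.ext
      rw [Subgroup.coe_mul, Subgroup.coe_mul, Subgroup.coe_inv, sTw1_eq, hxu]
      show xGL chevD4 K 9 u = w (xGL chevD4 K 14) (xGL chevD4 K 9) 1 * xGL chevD4 K 14 (-u) *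
        (w (xGL chevD4 K 14) (xGL chevD4 K 9) 1)⁻¹
      rw [SM_conj_b, neg_neg]
    rw [e]
    exact mul_mem (mul_mem hs (hBmem _ (SM_pos_mem 14 (by decide) _))) (inv_mem hs)

theorem SM_c18_9 : commOK chevD4 18 9 = true := by decide +kernel
theorem SM_c13_9 : commOK chevD4 13 9 = true := by decide +kernel
theorem SM_c12_9 : commOK chevD4 12 9 = true := by decide +kernel
theorem SM_c14_5 : commOK chevD4 14 5 = true := by decide +kernel
theorem SM_c14_10 : commOK chevD4 14 10 = true := by decide +kernel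
theorem SM_c14_11 : commOK chevD4 14 11 = true := by decide +kernel

/-- PIECE K1: `X_i` and `X_{-j}` commute for `i ≠ j` (`xGL_comm_pm` for the simple roots `p₁, p₃, p₄` against `p₂`) -/
theorem comm_D4 {K : Type*} [Field K] {q : ℕ} (f : K ≃+* K) (i j : Fin 2) (hij : i ≠ j)
    (x : ↥(twistedD4 K q)) (hx : x ∈ XpTw f q i)
    (y : ↥(twistedD4 K q)) (hy : y ∈ XmTw f q j) : x * y = y * x := by
  apply Subtype.ext
  rw [Subgroup.coe_mul, Subgroup.coe_mul]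
  fin_cases i <;> fin_cases j
  · exact absurd rfl hij
  · obtain ⟨t, ht⟩ := (SM_mem_Xp0 f x).mp hx
    obtain ⟨u, -, hu⟩ := (SM_mem_Xm1 f y).mp hy
    rw [ht, hu]
    unfold xa
    exact (((xGL_commute chevD4 memD4 18 9 SM_c18_9 _ _).mul_left
      (xGL_commute chevD4 memD4 13 9 SM_c13_9 _ _)).mul_left
      (xGL_commute chevD4 memD4 12 9 SM_c12_9 _ _)).eq
  · obtain ⟨u, -, hu⟩ := (SM_mem_Xp1 f x).mp hx
    obtain ⟨t, ht⟩ := (SM_mem_Xm0 f y).mp hy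
    rw [ht, hu]
    unfold ya
    exact (((xGL_commute chevD4 memD4 14 5 SM_c14_5 _ _).mul_right
      (xGL_commute chevD4 memD4 14 10 SM_c14_10 _ _)).mul_right
      (xGL_commute chevD4 memD4 14 11 SM_c14_11 _ _)).eq
  · exact absurd rfl hij

/-- (abstract) in a rank one system `x(1)` and `y(-1)` do not commute, if `x(1) ∉ {y(u)}` -/
theorem SM_not_comm {F Γ : Type*} [Field F] [Group Γ] {x y : F → Γ} (R : Rel x y)
    (hdis : ∀ u, x 1 ≠ y u) : x 1 * y (-1) ≠ y (-1) * x 1 := by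
  intro e
  have hc : Commute (x 1) (y (-1)) := e
  have hw : Commute (w x y 1) (x 1) := by
    unfold w
    rw [_root_.inv_one]
    exact ((Commute.refl _).mul_left hc.symm).mul_left (Commute.refl _)
  have h1 := R.conj 1 1 one_ne_zero
  have h2 : w x y 1 * x 1 * (w x y 1)⁻¹ = x 1 := by
    rw [hw.eq]; group
  rw [h2] at h1
  exact hdis _ h1

/-- PIECE K2: `X_i` and `X_{-i}` do not commute -/
theorem ncomm_D4 {K : Type*} [Field K] [Fintype K] {q : ℕ} (f : K ≃+* K) (hf : ∀ t, f t = t ^ q) (i : Fin 2) :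
    ∃ x ∈ XpTw f q i, ∃ y ∈ XmTw f q i, x * y ≠ y * x := by
  fin_cases i
  · refine ⟨⟨xa f 1, xa_mem f hf 1⟩, (SM_mem_Xp0 f _).mpr ⟨1, rfl⟩,
      ⟨ya f (-1), ya_mem f hf (-1)⟩, (SM_mem_Xm0 f _).mpr ⟨-1, rfl⟩, ?_⟩
    intro e
    have e' : xa f 1 * ya f (-1) = ya f (-1) * xa f 1 := congrArg Subtype.val e
    refine SM_not_comm (rel_a f) ?_ e'
    intro u hu
    have h0 := xa_mem_neg f 1 (by rw [hu]; exact SM_ya_mem_neg f u)
    exact one_ne_zero h0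
  · refine ⟨⟨xGL chevD4 K 14 1, x2pD4_mem f hf 1 (map_one f)⟩, (SM_mem_Xp1 f _).mpr ⟨1, map_one f, rfl⟩,
      ⟨xGL chevD4 K 9 (-1), x2mD4_mem f hf (-1) (by rw [map_neg, map_one])⟩,
      (SM_mem_Xm1 f _).mpr ⟨-1, by rw [map_neg, map_one], rfl⟩, ?_⟩
    intro e
    have e' : xGL chevD4 K 14 1 * xGL chevD4 K 9 (-1) = xGL chevD4 K 9 (-1) * xGL chevD4 K 14 1 :=
      congrArg Subtype.val e
    refine SM_not_comm (RE_rel14 (K := K)) ?_ e'
    intro u hu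
    have h1 : xGL chevD4 K 14 (1 : K) ∈ chevD4.posUnipotent K ⊓ chevD4.negUnipotent K :=
      ⟨SM_pos_mem 14 (by decide) 1, by rw [hu]; exact SM_neg_mem 9 (by decide) u⟩
    rw [pos_inf_neg' (F := K) chevD4 memD4, Subgroup.mem_bot, ← (RE_rel14 (K := K)).x_zero] at h1
    exact one_ne_zero (xGL_injective chevD4 memD4 14 (by decide) h1)

end Cfsg.Agent.Helper18.Tw
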