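import Cfsg.Agent.Helper18.Tw.P_Sylow
import Cfsg.Agent.Helper18.Tw.P_Borel
import Cfsg.Agent.Helper18.Tw.P_Small
import Cfsg.Agent.Helper18.Tw.P_N0
import Cfsg.Agent.Helper18.Tw.P_Opp
import Cfsg.Agent.Helper18.Tw.P_Para

/-!
Helper18: the hypotheses `L1Hyp` of the abstract first reduction for the triality twisted group `³D₄(q)`,
assembled from the pieces `P_*`.
-/

set_option autoImplicit false
set_option maxRecDepth 100000

namespace Cfsg.Agent.Helper18.Tw

open Cfsg Cfsg.Lie Cfsg.Agent.Helper18 Cfsg.Agent.Helper18.Aut Cfsg.Agent.Helper19.Twist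
  Cfsg.Agent.Helper19.Poinc Cfsg.Agent.Helper19.Cox Cfsg.Agent.S1081 Cfsg.Agent.Helper6

section

variable {K : Type*} [Field K] [Fintype K] {q : ℕ} (f : K ≃+* K) (hf : ∀ t, f t = t ^ q)

include hf in
theorem twD4_L1Hyp (p : ℕ) [Fact p.Prime] [CharP K p] (hq : IsPrimePow q) (hK : Fintype.card K = q ^ 3) :
    ∃ P : BNPair ↥(twistedD4 K q),
      (∀ b : ↥(twistedD4 K q), b ∈ P.B ↔ (b : GL chevD4.Idx K) ∈ chevD4.borelSubgroup K) ∧
      (∀ b : ↥(twistedD4 K q), b ∈ P.N ↔ (b : GL chevD4.Idx K) ∈ chevD4.monomialSubgroup K) ∧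
      L1Hyp P p (U1 K q) (V1 K q) (sTw f hf) (XpTw f q) (XmTw f q) (n0Tw f hf) id := by
  obtain ⟨P, hB, hN, hS⟩ := bnPairS_D4 f hf hq.two_le hK
  have hmemB : ∀ b : ↥(twistedD4 K q), b ∈ P.B ↔ (b : GL chevD4.Idx K) ∈ chevD4.borelSubgroup K := by
    intro b
    rw [hB, Subgroup.mem_subgroupOf, Subgroup.mem_inf]
    exact ⟨fun h => h.1, fun h => ⟨h, b.2⟩⟩
  have hmemN : ∀ b : ↥(twistedD4 K q), b ∈ P.N ↔ (b : GL chevD4.Idx K) ∈ chevD4.monomialSubgroup K := by
    intro b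
    rw [hN, Subgroup.mem_subgroupOf, Subgroup.mem_inf]
    exact ⟨fun h => h.1, fun h => ⟨h, b.2⟩⟩
  refine ⟨P, hmemB, hmemN, ?_⟩
  exact
    { sylow := sylow_D4 p hq hK
      U_le := by
        intro x hx
        rw [hmemB]
        exact posUnipotent_le_borel chevD4 memD4 (Subgroup.mem_subgroupOf.mp hx)
      U_norm := fun b hb => U_norm_D4 b ((hmemB b).mp hb)
      S_eq := hS
      s_not_norm := s_not_norm_D4 f hf
      B_inf_V := by
        ext x
        rw [Subgroup.mem_inf, hmemB, Subgroup.mem_bot]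
        constructor
        · rintro ⟨h1, h2⟩
          have : (x : GL chevD4.Idx K) ∈ chevD4.borelSubgroup K ⊓ chevD4.negUnipotent K :=
            Subgroup.mem_inf.mpr ⟨h1, Subgroup.mem_subgroupOf.mp h2⟩
          rw [(Cfsg.Agent.S1037.result (F := K) chevD4 memD4).1, Subgroup.mem_bot] at this
          exact Subtype.ext this
        · rintro rfl
          exact ⟨one_mem _, one_mem _⟩
      n0_mem := (hmemN _).mpr (n0_mem_D4 f hf)
      n0_U := n0_U_D4 f hf
      n0_V := n0_V_D4 f hf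
      opp := fun n hn h => opp_D4 hq hK n ((hmemN n).mp hn) h
      V_conj := fun b hb => V_conj_D4 hq hK b ((hmemB b).mp hb)
      Xm_le_V := Xm_le_V_D4 f
      Xm_le_P := Xm_le_P_D4 f hf P hB
      para := para_D4 f hf hq hK P hB hN hS
      Xp_eq := Xp_eq_D4 f hf hq hK
      star_surj := Function.surjective_id
      comm := comm_D4 f
      ncomm := ncomm_D4 f hf }

end

end Cfsg.Agent.Helper18.Tw
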