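import Cfsg.Agent.Helper18.Tw.D4L2Defs
import Cfsg.Agent.Helper18.Tw.D4L1

/-!
Helper18 / twisted D4 automorphisms, PIECE IN (a field automorphism which is inner is trivial).
-/

set_option autoImplicit false
set_option maxRecDepth 100000

namespace Cfsg.Agent.Helper18.Tw

open Cfsg Cfsg.Lie Cfsg.Agent.Helper18 Cfsg.Agent.Helper18.Aut Cfsg.Agent.Helper19.Twist
  Cfsg.Agent.Helper19.Poinc Cfsg.Agent.Helper19.Cox Cfsg.Agent.S1081 Cfsg.Agent.Helper6
  Cfsg.Agent.Helper40.SL2Hom Cfsg.Agent.S1080 Cfsg.Agent.Helper18.Sub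

section InnerAux

variable {K : Type*} [Field K]

/-- the coefficient family of `x_{p₁}(a) x_{p₃}(b) x_{p₄}(c)` -/
def coef3 (a b c : K) : ℕ → K := fun r => if r = 18 then a else if r = 13 then b else if r = 12 then c else 0

theorem pwG_coef3 (a b c : K) :
    pwG chevD4 K [18, 13, 12] (coef3 a b c) = xGL chevD4 K 18 a * xGL chevD4 K 13 b * xGL chevD4 K 12 c := by
  rw [pwG_cons, pwG_cons, pwG_cons, pwG_nil, mul_one, mul_assoc]
  simp [coef3]

/-- uniqueness of the expression in `X_{p₁} X_{p₃} X_{p₄}` -/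
theorem prod3_inj (a b c a' b' c' : K)
    (h : xGL chevD4 K 18 a * xGL chevD4 K 13 b * xGL chevD4 K 12 c =
      xGL chevD4 K 18 a' * xGL chevD4 K 13 b' * xGL chevD4 K 12 c') : a = a' := by
  have hP : ClosedList chevD4 phiTD4 [18, 13, 12] :=
    closedOK_spec (List.all_eq_true.mp closedOK_D4_each [18, 13, 12] (by decide))
  have h0 : ∀ (x y z : K) (r : ℕ), r ∉ [18, 13, 12] → coef3 x y z r = 0 := by
    intro x y z r hr
    simp only [List.mem_cons, List.not_mem_nil, or_false, not_or] at hr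
    simp [coef3, hr.1, hr.2.1, hr.2.2]
  have h1 := pwG_injOn (K := K) memD4 gradeOK'_D4 [18, 13, 12] hP (coef3 a b c) (coef3 a' b' c')
    (h0 a b c) (h0 a' b' c') (by rw [pwG_coef3, pwG_coef3, h])
  have := congrFun h1 18
  simpa [coef3] using this

end InnerAux

/-- PIECE IN: if the field automorphism of `τ` is conjugation by `g ∈ G¹` then `τ = 1`.
Hint: `glEquiv` preserves `U`, `V` (`glEquiv_pos`, `glEquiv_neg`), so `g` normalises `U¹` and `V¹`; from `twD4_L1Hyp`: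
`L1Hyp.normalizer_eq` gives `g ∈ B`, and (as in `mem_diag_of_normalizes`, `Helper18/Aut/ChevHyp.lean`, with
`B1_decomp`) `g ∈ H`. Then `g x_{p₁}(t) g⁻¹ = x_{p₁}(χ t)` (`diagonalSubgroup_char`), while
`g x_a(t) g⁻¹ = x_a(τ t)`; comparing (uniqueness of the expression in `X_{p₁}X_{p₃}X_{p₄}`: `pwG_injOn`, or multiply by
`x_{p₁}(-τ t)` and use `X_{p₁} ∩ X_{p₃}X_{p₄} = 1`) `τ t = χ t` for all `t`, and `t = 1` gives `χ = 1`. -/
theorem fieldTw_not_inner {K : Type*} [Field K] [Fintype K] {q : ℕ} (p : ℕ) [Fact p.Prime] [CharP K p]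
    (hq : IsPrimePow q) (hK : Fintype.card K = q ^ 3) (τ : K ≃+* K) (g : ↥(twistedD4 K q))
    (h : ∀ x, fieldTw q τ x = g * x * g⁻¹) : τ = 1 := by
  obtain ⟨f, hf⟩ := exists_frob hq hK
  obtain ⟨P, hmemB, hmemN, H⟩ := twD4_L1Hyp f hf p hq hK
  -- the inverse automorphism
  have hsymm : ∀ x : ↥(twistedD4 K q), fieldTw q τ.symm x = g⁻¹ * x * g := by
    intro x
    have h1 : fieldTw q τ (fieldTw q τ.symm x) = x := (fieldTw q τ).apply_symm_apply x
    rw [h] at h1
    calc fieldTw q τ.symm x = g⁻¹ * (g * fieldTw q τ.symm x * g⁻¹) * g := by group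
      _ = g⁻¹ * x * g := by rw [h1]
  -- `g` normalises `U¹` and `V¹`
  have hstab : ∀ (W : Subgroup (GL chevD4.Idx K)),
      (∀ (σ : K ≃+* K) (x : GL chevD4.Idx K), x ∈ W → glEquiv chevD4 σ x ∈ W) →
      cjg g (W.subgroupOf (twistedD4 K q)) = W.subgroupOf (twistedD4 K q) := by
    intro W hW
    ext x
    rw [mem_cjg, Subgroup.mem_subgroupOf, Subgroup.mem_subgroupOf]
    constructor
    · intro hx
      have := hW τ _ hx
      have e : glEquiv chevD4 τ ((g⁻¹ * x * g : ↥(twistedD4 K q)) : GL chevD4.Idx K) =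
          ((fieldTw q τ (g⁻¹ * x * g) : ↥(twistedD4 K q)) : GL chevD4.Idx K) := rfl
      rw [e, h] at this
      have e2 : g * (g⁻¹ * x * g) * g⁻¹ = x := by group
      rwa [e2] at this
    · intro hx
      have := hW τ.symm _ hx
      have e : glEquiv chevD4 τ.symm ((x : ↥(twistedD4 K q)) : GL chevD4.Idx K) =
          ((fieldTw q τ.symm x : ↥(twistedD4 K q)) : GL chevD4.Idx K) := rfl
      rwa [e, hsymm] at this
  have hU : cjg g (U1 K q) = U1 K q :=
    hstab _ (fun σ x hx => glEquiv_pos chevD4 memD4 σ x hx)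
  have hV : cjg g (V1 K q) = V1 K q :=
    hstab _ (fun σ x hx => glEquiv_neg chevD4 memD4 σ x hx)
  -- `g ∈ B` and `n₀⁻¹ g n₀ ∈ B`
  have hgB : (g : GL chevD4.Idx K) ∈ chevD4.borelSubgroup K := (hmemB g).mp (H.normalizer_eq g hU)
  have hU' : cjg ((n0Tw f hf)⁻¹ * g * n0Tw f hf) (U1 K q) = U1 K q := by
    rw [cjg_mul, cjg_mul, H.n0_U, hV, ← H.n0_U, cjg_inv_cjg]
  have hgB' : ((n0Tw f hf : ↥(twistedD4 K q)) : GL chevD4.Idx K)⁻¹ * (g : GL chevD4.Idx K) *
      ((n0Tw f hf : ↥(twistedD4 K q)) : GL chevD4.Idx K) ∈ chevD4.borelSubgroup K :=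
    (hmemB _).mp (H.normalizer_eq _ hU')
  -- `g ∈ H`
  have hn0N := n0_mem_D4 f hf
  have hn0U : cjg ((n0Tw f hf : ↥(twistedD4 K q)) : GL chevD4.Idx K) (chevD4.posUnipotent K) =
      chevD4.negUnipotent K := by
    rw [n0Tw_val]; exact n0_pos_amb
  set n : GL chevD4.Idx K := ((n0Tw f hf : ↥(twistedD4 K q)) : GL chevD4.Idx K) with hn
  have hgVH : (g : GL chevD4.Idx K) ∈ chevD4.negUnipotent K ⊔ chevD4.diagonalSubgroup K := by
    have hmap : cjg n (chevD4.borelSubgroup K) ≤ chevD4.negUnipotent K ⊔ chevD4.diagonalSubgroup K := by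
      unfold cjg at hn0U ⊢
      conv_lhs => unfold ChevalleyDatum.borelSubgroup
      rw [Subgroup.map_sup, hn0U]
      apply sup_le_sup le_rfl
      have hnorm := monomialSubgroup_le_normalizer chevD4 memD4 hn0N
      exact le_of_eq (Subgroup.mem_normalizer_iff_map_conj_eq.mp hnorm)
    apply hmap
    rw [mem_cjg]
    exact hgB'
  have hgH : (g : GL chevD4.Idx K) ∈ chevD4.diagonalSubgroup K := by
    rw [← (Cfsg.Agent.S1037.result (F := K) chevD4 memD4).2]
    exact ⟨hgB, hgVH⟩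
  -- compare the two actions on `x_a(t)`
  obtain ⟨χ, -, -, hc⟩ := diagonalSubgroup_char chevD4 memD4 _ hgH
  have key : ∀ t : K, τ t = χ 18 * t := by
    intro t
    have h1 := h ⟨xa f t, xa_mem f hf t⟩
    have h2 := congrArg (fun x : ↥(twistedD4 K q) => (x : GL chevD4.Idx K)) h1
    simp only [fieldTw_coe, Subgroup.coe_mul, Subgroup.coe_inv] at h2
    unfold xa at h2
    rw [map_mul, map_mul, glEquiv_xGL chevD4 memD4, glEquiv_xGL chevD4 memD4, glEquiv_xGL chevD4 memD4] at h2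
    have h3 : (g : GL chevD4.Idx K) * (xGL chevD4 K 18 t * xGL chevD4 K 13 (f t) * xGL chevD4 K 12 (f (f t))) *
        (g : GL chevD4.Idx K)⁻¹ =
        xGL chevD4 K 18 (χ 18 * t) * xGL chevD4 K 13 (χ 13 * f t) * xGL chevD4 K 12 (χ 12 * f (f t)) := by
      have c1 := hc 18 (by decide) t
      have c2 := hc 13 (by decide) (f t)
      have c3 := hc 12 (by decide) (f (f t))
      rw [← mul_assoc, ← mul_assoc, c1, mul_assoc (xGL chevD4 K 18 (χ 18 * t)), c2, ← mul_assoc,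
        mul_assoc (xGL chevD4 K 18 (χ 18 * t) * xGL chevD4 K 13 (χ 13 * f t)), c3]
      group
    rw [h3] at h2
    exact prod3_inj _ _ _ _ _ _ h2
  have h1 := key 1
  rw [map_one, mul_one] at h1
  ext t
  rw [key t, ← h1, one_mul]
  rfl

end Cfsg.Agent.Helper18.Tw
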