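import Cfsg.Agent.Helper18.Tw.D4L1
import Cfsg.Agent.Helper18.Tw.P_Cross
import Cfsg.Agent.Helper18.Tw.P_Diag
import Cfsg.Agent.Helper18.Tw.P_Ext
import Cfsg.Agent.Helper18.Tw.P_Inner

/-!
Helper18: the automorphisms of `³D₄(q)`: every automorphism is the product of an inner and a field automorphism.
-/

set_option autoImplicit false
set_option maxRecDepth 100000

namespace Cfsg.Agent.Helper18.Tw

open Cfsg Cfsg.Lie Cfsg.Agent.Helper18 Cfsg.Agent.Helper18.Aut Cfsg.Agent.Helper19.Twist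
  Cfsg.Agent.Helper19.Poinc Cfsg.Agent.Helper19.Cox Cfsg.Agent.S1081 Cfsg.Agent.Helper6
  Cfsg.Agent.Helper40.SL2Hom Cfsg.Agent.S1080 Cfsg.Agent.Helper18.Sub

section

variable {K : Type*} [Field K] [Fintype K] {q : ℕ} (f : K ≃+* K) (hf : ∀ t, f t = t ^ q)

omit [Fintype K] in
theorem xaS_mem (t : K) : xaS f hf t ∈ XpTw f q 0 := by
  unfold XpTw
  rw [if_pos rfl, Subgroup.mem_subgroupOf]
  exact (mem_XA f _).mpr ⟨t, rfl⟩

omit [Fintype K] in
theorem yaS_mem (t : K) : yaS f hf t ∈ XmTw f q 0 := by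
  unfold XmTw
  rw [if_pos rfl, Subgroup.mem_subgroupOf]
  exact (mem_YA f _).mpr ⟨t, rfl⟩

omit [Fintype K] in
theorem xbS_mem (u : k0 f) : xbS f hf u ∈ XpTw f q 1 := by
  unfold XpTw
  rw [if_neg (by decide), Subgroup.mem_subgroupOf]
  exact (mem_XB f _).mpr ⟨u, u.2, rfl⟩

omit [Fintype K] in
theorem ybS_mem (u : k0 f) : ybS f hf u ∈ XmTw f q 1 := by
  unfold XmTw
  rw [if_neg (by decide), Subgroup.mem_subgroupOf]
  exact (mem_YB f _).mpr ⟨u, u.2, rfl⟩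

omit [Fintype K] in
theorem mem_Xp0 (x : ↥(twistedD4 K q)) (hx : x ∈ XpTw f q 0) : ∃ t, x = xaS f hf t := by
  unfold XpTw at hx
  rw [if_pos rfl, Subgroup.mem_subgroupOf] at hx
  obtain ⟨t, ht⟩ := (mem_XA f _).mp hx
  exact ⟨t, Subtype.ext ht⟩

omit [Fintype K] in
theorem mem_Xm0 (x : ↥(twistedD4 K q)) (hx : x ∈ XmTw f q 0) : ∃ t, x = yaS f hf t := by
  unfold XmTw at hx
  rw [if_pos rfl, Subgroup.mem_subgroupOf] at hx
  obtain ⟨t, ht⟩ := (mem_YA f _).mp hx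
  exact ⟨t, Subtype.ext ht⟩

omit [Fintype K] in
theorem mem_Xp1 (x : ↥(twistedD4 K q)) (hx : x ∈ XpTw f q 1) : ∃ u, x = xbS f hf u := by
  unfold XpTw at hx
  rw [if_neg (by decide), Subgroup.mem_subgroupOf] at hx
  obtain ⟨u, hu, ht⟩ := (mem_XB f _).mp hx
  exact ⟨⟨u, hu⟩, Subtype.ext ht⟩

omit [Fintype K] in
theorem mem_Xm1 (x : ↥(twistedD4 K q)) (hx : x ∈ XmTw f q 1) : ∃ u, x = ybS f hf u := by
  unfold XmTw at hx
  rw [if_neg (by decide), Subgroup.mem_subgroupOf] at hx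
  obtain ⟨u, hu, ht⟩ := (mem_YB f _).mp hx
  exact ⟨⟨u, hu⟩, Subtype.ext ht⟩

include hf in
/-- Steinberg's theorem for `³D₄(q)`: every automorphism is inner times field -/
theorem aut_twD4 (p : ℕ) [Fact p.Prime] [CharP K p] (hq : IsPrimePow q) (hK : Fintype.card K = q ^ 3)
    (θ : ↥(twistedD4 K q) ≃* ↥(twistedD4 K q)) :
    ∃ (g : ↥(twistedD4 K q)) (τ : K ≃+* K), ∀ x, θ x = g * fieldTw q τ x * g⁻¹ := by
  obtain ⟨P, -, -, H⟩ := twD4_L1Hyp f hf p hq hK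
  obtain ⟨g₁, π, hπ⟩ := H.main θ
  set θ₁ := θ.trans (MulAut.conj g₁) with hθ₁
  have hq2 : 2 ≤ q := hq.two_le
  -- the permutation is trivial
  have hπ0 : π 0 = 0 := by
    by_contra hne
    have h1 : π 0 = 1 := by
      have := Fin.exists_fin_two.mp ⟨π 0, rfl⟩
      rcases this with h | h
      · exact absurd h hne
      · exact h
    have h2 := congrArg (fun S : Subgroup ↥(twistedD4 K q) => Nat.card S) (hπ 0).1
    simp only [card_im] at h2
    rw [h1, card_Xp0 f hf hK, card_Xp1 f hf (by omega) hK] at h2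
    have h3 : q ^ 3 = q ^ 1 := by rw [h2, pow_one]
    have := Nat.pow_right_injective hq2 h3
    omega
  have hπ1 : π 1 = 1 := by
    by_contra hne
    have h1 : π 1 = 0 := by
      have := Fin.exists_fin_two.mp ⟨π 1, rfl⟩
      rcases this with h | h
      · exact h
      · exact absurd h hne
    have := π.injective (h1.trans hπ0.symm)
    exact absurd this (by decide)
  have hA := hπ 0
  have hB := hπ 1
  rw [hπ0] at hA
  rw [hπ1] at hB
  -- the images of the root elements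
  have himg : ∀ (S : Subgroup ↥(twistedD4 K q)) (x : ↥(twistedD4 K q)), im θ₁ S = S → x ∈ S → θ₁ x ∈ S := by
    intro S x hS hx
    rw [← hS, mem_im]
    simpa using hx
  have hXa : ∀ t, ∃ t', θ₁ (xaS f hf t) = xaS f hf t' :=
    fun t => mem_Xp0 f hf _ (himg _ _ hA.1 (xaS_mem f hf t))
  have hYa : ∀ t, ∃ t', θ₁ (yaS f hf t) = yaS f hf t' :=
    fun t => mem_Xm0 f hf _ (himg _ _ hA.2 (yaS_mem f hf t))
  have hXb : ∀ u, ∃ u', θ₁ (xbS f hf u) = xbS f hf u' :=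
    fun u => mem_Xp1 f hf _ (himg _ _ hB.1 (xbS_mem f hf u))
  have hYb : ∀ u, ∃ u', θ₁ (ybS f hf u) = ybS f hf u' :=
    fun u => mem_Xm1 f hf _ (himg _ _ hB.2 (ybS_mem f hf u))
  obtain ⟨τ, c, d, hc, hd, hfd, e1, e2, e3, e4⟩ := func_eq f hf θ₁ hXa hYa hXb hYb
  obtain ⟨h, -, hhG, a1, a2, a3, a4⟩ := exists_diag f hf hq2 hK c d hc hd hfd
  have key : θ₁ = (fieldTw q τ).trans (MulAut.conj (⟨h, hhG⟩ : ↥(twistedD4 K q))) := by
    apply aut_ext_twD4 f hf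
    · intro t
      rw [e1]
      apply Subtype.ext
      show xa f (c * τ t) = h * ((fieldTw q τ (xaS f hf t) : ↥(twistedD4 K q)) : GL chevD4.Idx K) * h⁻¹
      rw [fieldTw_xaS f hf, xaS_coe, a1]
    · intro t
      rw [e2]
      apply Subtype.ext
      show ya f (c⁻¹ * τ t) = h * ((fieldTw q τ (yaS f hf t) : ↥(twistedD4 K q)) : GL chevD4.Idx K) * h⁻¹
      rw [fieldTw_yaS f hf, yaS_coe, a2]
    · intro u
      apply Subtype.ext
      rw [e3]
      show xGL chevD4 K 14 (d * τ u) =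
        h * ((fieldTw q τ (xbS f hf u) : ↥(twistedD4 K q)) : GL chevD4.Idx K) * h⁻¹
      rw [fieldTw_xbS f hf, a3]
    · intro u
      apply Subtype.ext
      rw [e4]
      show xGL chevD4 K 9 (d⁻¹ * τ u) =
        h * ((fieldTw q τ (ybS f hf u) : ↥(twistedD4 K q)) : GL chevD4.Idx K) * h⁻¹
      rw [fieldTw_ybS f hf, a4]
  refine ⟨g₁⁻¹ * ⟨h, hhG⟩, τ, ?_⟩
  intro x
  have h1 : θ₁ x = g₁ * θ x * g₁⁻¹ := rfl
  have h2 : θ₁ x = (⟨h, hhG⟩ : ↥(twistedD4 K q)) * fieldTw q τ x * (⟨h, hhG⟩ : ↥(twistedD4 K q))⁻¹ := by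
    rw [key]; rfl
  have h3 : θ x = g₁⁻¹ * θ₁ x * g₁ := by rw [h1]; group
  rw [h3, h2]
  group

end

end Cfsg.Agent.Helper18.Tw
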