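import Cfsg.Agent.Helper19.Twist.SimpleInst
import Cfsg.Agent.Helper19.Twist.TorusD4
import Cfsg.Agent.Helper19.Twist.ClassD4
import Cfsg.Agent.Helper18.Aut.ChevGL
import Cfsg.Agent.Helper18.BNPairChev
import Cfsg.Agent.Helper18.UpStruct
import Cfsg.Agent.S1025
import Cfsg.Agent.S1031
import Cfsg.Agent.S1038

/-!
Helper18: the triality twisted group `³D₄(q)` inside `D₄(q³)`: notation for the automorphism theorem.
The twisted fundamental root elements `x_a(t) = x_{p₁}(t) x_{p₃}(t^q) x_{p₄}(t^{q²})`, `x_b(u) = x_{p₂}(u)` (`u^q = u`),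
the standard hypotheses package and the `(B, N)`-pair with its distinguished generators.
-/

set_option autoImplicit false
set_option maxRecDepth 100000

namespace Cfsg.Agent.Helper18.Tw

open Cfsg Cfsg.Lie Cfsg.Agent.Helper18 Cfsg.Agent.Helper18.Aut Cfsg.Agent.Helper19.Twist
  Cfsg.Agent.Helper19.Poinc Cfsg.Agent.Helper19.Cox Cfsg.Agent.S1081

section

variable {K : Type*} [Field K] (f : K ≃+* K)

/-- `x_a(t) = x_{p₁}(t) x_{p₃}(f t) x_{p₄}(f² t)` -/
noncomputable def xa (t : K) : GL chevD4.Idx K :=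
  xGL chevD4 K 18 t * xGL chevD4 K 13 (f t) * xGL chevD4 K 12 (f (f t))

/-- `x_{-a}(t) = x_{-p₁}(t) x_{-p₃}(f t) x_{-p₄}(f² t)` -/
noncomputable def ya (t : K) : GL chevD4.Idx K :=
  xGL chevD4 K 5 t * xGL chevD4 K 10 (f t) * xGL chevD4 K 11 (f (f t))

/-- the hypotheses on the ambient group, all theorems on main -/
theorem h25D4 : CommHyp chevD4 K :=
  fun r s hr hs h1 h2 t u => Cfsg.Agent.S1025.result chevD4 memD4 r s hr hs h1 h2 t u

theorem h31D4 : NConjHyp chevD4 K := fun i s hi hs => Cfsg.Agent.S1031.result chevD4 memD4 i s hi hs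

theorem hnD4 : (HN chevD4 K).Normal := Cfsg.Agent.S1038.result chevD4 memD4

instance instHND4 : (HN chevD4 K).Normal := hnD4

theorem h42D4 : H42 chevD4 K := exists_bnPair (F := K) chevD4 memD4 h25D4

theorem h45D4 : H45 chevD4 K := fun i hi =>
  ⟨rootSubgroup_le_normalizer_Up chevD4 memD4 h25D4 i hi, Up_sup_rootSubgroup chevD4 memD4 i hi⟩

end

section

variable {K : Type*} [Field K] [Fintype K] {q : ℕ} (f : K ≃+* K) (hf : ∀ t, f t = t ^ q)

omit [Fintype K] in
include hf in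
theorem xa_mem (t : K) : xa f t ∈ twistedD4 K q := xJpD4_mem f hf t

omit [Fintype K] in
include hf in
theorem ya_mem (t : K) : ya f t ∈ twistedD4 K q := xJmD4_mem f hf t

/-- the distinguished generators of the twisted Weyl group, in `G¹` -/
noncomputable def sTw (a : Fin 2) : ↥(twistedD4 K q) :=
  ⟨(repGenD4 K a.val : GL chevD4.Idx K), repGenD4_mem f hf a.val⟩

include hf in
/-- the `(B, N)`-pair of `³D₄(q)` with its distinguished generators -/
theorem bnPairS_D4 (hq : 2 ≤ q) (hK : Fintype.card K = q ^ 3) :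
    ∃ P : Cfsg.BNPair ↥(twistedD4 K q),
      P.B = (chevD4.borelSubgroup K ⊓ twistedD4 K q).subgroupOf (twistedD4 K q) ∧
      P.N = (chevD4.monomialSubgroup K ⊓ twistedD4 K q).subgroupOf (twistedD4 K q) ∧
      P.S = Set.range (sTw f hf) := by
  have hq1 : 1 ≤ q := by omega
  obtain ⟨hdist, hJ, hnegJ⟩ := classGen_spec (D1 := chevG2) certD4 JD4 classGenOK_D4
  obtain ⟨P, hB, hN, hS⟩ := twisted_bnPair_S chevD4 memD4 certD4 h31D4 rho1 rhoInv1 pi1 piInv1 eps1 permsOK_D4 f allOK1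
    twistOK_D4 isoOK_D4 rootInjOK_D4 h42D4 h45D4 (twistedD4 K q) (twistedD4_le_FixD4 f hf hK)
    (U_fix_le_D4 f hf h31D4 hq1 hK) (genSubgroup_le_group memD4 _) chevG2.rank JD4 hJ (by
      intro a ha
      rw [sList_D4 a ha]
      exact repGenD4_mem f hf a) fixSubOK_D4
    (isFix_range_word memD4 certD4 certG2 JD4 pi1 relOK_D4 piOK_D4 orbOK_D4 orthOK_D4)
    (gp_class_sq certD4 certG2 JD4 relOK_D4) hdist hnegJ (by
      intro a ha
      have hS := classMem_D4 a ha
      have hc := card_class_D4 f hf hq1 hK _ hS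
      have hlen := classLen_D4 a ha
      obtain ⟨x, hx, hne⟩ := nontrivial_of_card _ (m := q ^ ((JD4 a).map chevD4.simple).length)
        (le_trans hq (Nat.le_self_pow (by omega) q)) hc
      exact ⟨x, ⟨hx.1, class_le_D4 f hf h31D4 hq1 hK _ hS hx⟩, hne⟩) h25D4
  refine ⟨P, hB, hN, ?_⟩
  rw [hS]
  ext s
  constructor
  · rintro ⟨a, ha, hs⟩
    have ha2 : a < 2 := ha
    refine ⟨⟨a, ha2⟩, ?_⟩
    apply Subtype.ext
    rw [hs, sList_D4 a ha2]
    rfl
  · rintro ⟨a, rfl⟩
    refine ⟨a.val, a.2, ?_⟩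
    rw [sList_D4 a.val a.2]
    rfl

end

end Cfsg.Agent.Helper18.Tw
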