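import Cfsg.Agent.Helper18.Tw.D4Sub
import Cfsg.Agent.Helper18.Sub.Frob

/-!
Helper18: the second half of the automorphism theorem of `³D₄(q)`: notation. The root elements as elements of
`G¹`, the fixed field `k₀`, the field automorphisms of `G¹`.
-/

set_option autoImplicit false
set_option maxRecDepth 100000

namespace Cfsg.Agent.Helper18.Tw

open Cfsg Cfsg.Lie Cfsg.Agent.Helper18 Cfsg.Agent.Helper18.Aut Cfsg.Agent.Helper19.Twist
  Cfsg.Agent.Helper19.Poinc Cfsg.Agent.Helper19.Cox Cfsg.Agent.S1081 Cfsg.Agent.Helper6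
  Cfsg.Agent.Helper40.SL2Hom Cfsg.Agent.S1080 Cfsg.Agent.Helper18.Sub

section

variable {K : Type*} [Field K] {q : ℕ} (f : K ≃+* K) (hf : ∀ t, f t = t ^ q)

/-- the fixed field of `f` -/
def k0 (f : K ≃+* K) : Subfield K := (f : K →+* K).eqLocusField (RingHom.id K)

theorem mem_k0 (u : K) : u ∈ k0 f ↔ f u = u := Iff.rfl

/-- `x_a(t)` in `G¹` -/
noncomputable def xaS (t : K) : ↥(twistedD4 K q) := ⟨xa f t, xa_mem f hf t⟩

/-- `x_{-a}(t)` in `G¹` -/
noncomputable def yaS (t : K) : ↥(twistedD4 K q) := ⟨ya f t, ya_mem f hf t⟩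

/-- `x_b(u)` in `G¹` -/
noncomputable def xbS (u : k0 f) : ↥(twistedD4 K q) := ⟨xGL chevD4 K 14 u, x2pD4_mem f hf u u.2⟩

/-- `x_{-b}(u)` in `G¹` -/
noncomputable def ybS (u : k0 f) : ↥(twistedD4 K q) := ⟨xGL chevD4 K 9 u, x2mD4_mem f hf u u.2⟩

@[simp] theorem xaS_coe (t : K) : ((xaS f hf t : ↥(twistedD4 K q)) : GL chevD4.Idx K) = xa f t := rfl
@[simp] theorem yaS_coe (t : K) : ((yaS f hf t : ↥(twistedD4 K q)) : GL chevD4.Idx K) = ya f t := rfl
@[simp] theorem xbS_coe (u : k0 f) :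
    ((xbS f hf u : ↥(twistedD4 K q)) : GL chevD4.Idx K) = xGL chevD4 K 14 u := rfl
@[simp] theorem ybS_coe (u : k0 f) :
    ((ybS f hf u : ↥(twistedD4 K q)) : GL chevD4.Idx K) = xGL chevD4 K 9 u := rfl

/-- field automorphisms preserve `³D₄(q)` -/
theorem glEquiv_mem_twistedD4 (τ : K ≃+* K) (g : GL chevD4.Idx K) (hg : g ∈ twistedD4 K q) :
    glEquiv chevD4 τ g ∈ twistedD4 K q := by
  have htri := triOK_of_mem chevD4 memD4
  have hle : twistedD4 K q ≤ (twistedD4 K q).comap (glEquiv chevD4 τ).toMonoidHom := by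
    unfold twistedD4 ChevalleyDatum.genSubgroup
    rw [Subgroup.closure_le]
    rintro g ⟨w, hw, hg⟩
    have e : g = wordGL chevD4 K w := Units.ext (by rw [hg, wordGL_val chevD4 _ htri])
    rw [SetLike.mem_coe, Subgroup.mem_comap]
    show glEquiv chevD4 τ g ∈ _
    rw [e, glEquiv_wordGL chevD4 memD4]
    apply wordGL_mem_twistedD4
    rcases hw with ⟨t, ht, r, hr, rfl⟩ | ⟨t, rs, hrs, rfl⟩
    · left
      refine ⟨τ t, by rw [← map_pow, ht], r, hr, ?_⟩
      simp
    · right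
      refine ⟨τ t, rs, hrs, ?_⟩
      simp [map_pow]
  exact hle hg

/-- the field automorphism of `G¹` induced by `τ` -/
noncomputable def fieldTw (q : ℕ) (τ : K ≃+* K) : ↥(twistedD4 K q) ≃* ↥(twistedD4 K q) where
  toFun g := ⟨glEquiv chevD4 τ g, glEquiv_mem_twistedD4 τ g g.2⟩
  invFun g := ⟨glEquiv chevD4 τ.symm g, glEquiv_mem_twistedD4 τ.symm g g.2⟩
  left_inv g := by
    apply Subtype.ext
    apply Units.ext
    show (((g : GL chevD4.Idx K) : Matrix chevD4.Idx chevD4.Idx K).map τ).map τ.symm = _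
    ext i j
    simp
  right_inv g := by
    apply Subtype.ext
    apply Units.ext
    show (((g : GL chevD4.Idx K) : Matrix chevD4.Idx chevD4.Idx K).map τ.symm).map τ = _
    ext i j
    simp
  map_mul' a b := by
    apply Subtype.ext
    show glEquiv chevD4 τ ((a : GL chevD4.Idx K) * (b : GL chevD4.Idx K)) = _
    rw [map_mul]
    rfl

theorem fieldTw_coe (τ : K ≃+* K) (g : ↥(twistedD4 K q)) :
    ((fieldTw q τ g : ↥(twistedD4 K q)) : GL chevD4.Idx K) = glEquiv chevD4 τ g := rfl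

/-- the field automorphisms as a homomorphism -/
noncomputable def fieldTwHom (K : Type*) [Field K] (q : ℕ) : (K ≃+* K) →* MulAut ↥(twistedD4 K q) where
  toFun τ := fieldTw q τ
  map_one' := by
    ext g i j
    show (((g : GL chevD4.Idx K) : Matrix chevD4.Idx chevD4.Idx K).map (1 : K ≃+* K)) i j = _
    simp
  map_mul' τ₁ τ₂ := by
    ext g i j
    show (((g : GL chevD4.Idx K) : Matrix chevD4.Idx chevD4.Idx K).map (τ₁ * τ₂)) i j =
      ((((g : GL chevD4.Idx K) : Matrix chevD4.Idx chevD4.Idx K).map τ₂).map τ₁) i j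
    simp

theorem fieldTwHom_apply (τ : K ≃+* K) : fieldTwHom K q τ = fieldTw q τ := rfl

end

end Cfsg.Agent.Helper18.Tw
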