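import Cfsg.Agent.Helper18.Tw.D4Defs
import Cfsg.Agent.Helper18.Aut.ChevInst

/-!
Helper18: the subgroups of `³D₄(q)` entering the automorphism theorem: `U¹`, `V¹`, the fundamental root subgroups
`X_{±a}`, `X_{±b}`, the representative `n₀` of the longest element; the rank one relations for `x_a`, `x_{-a}`.
-/

set_option autoImplicit false
set_option maxRecDepth 100000

namespace Cfsg.Agent.Helper18.Tw

open Cfsg Cfsg.Lie Cfsg.Agent.Helper18 Cfsg.Agent.Helper18.Aut Cfsg.Agent.Helper19.Twist
  Cfsg.Agent.Helper19.Poinc Cfsg.Agent.Helper19.Cox Cfsg.Agent.S1081 Cfsg.Agent.Helper6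
  Cfsg.Agent.Helper40.SL2Hom

section

variable {K : Type*} [Field K] (f : K ≃+* K)

/-- `U¹ = U ∩ G¹` as a subgroup of `G¹` -/
noncomputable def U1 (K : Type*) [Field K] (q : ℕ) : Subgroup ↥(twistedD4 K q) :=
  (chevD4.posUnipotent K).subgroupOf (twistedD4 K q)

/-- `V¹ = V ∩ G¹` as a subgroup of `G¹` -/
noncomputable def V1 (K : Type*) [Field K] (q : ℕ) : Subgroup ↥(twistedD4 K q) :=
  (chevD4.negUnipotent K).subgroupOf (twistedD4 K q)

/-- the ambient root subgroup `X_a = {x_a(t)}` -/
noncomputable def XA : Subgroup (GL chevD4.Idx K) := Subgroup.closure (Set.range (xa f))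

/-- the ambient root subgroup `X_{-a} = {x_{-a}(t)}` -/
noncomputable def YA : Subgroup (GL chevD4.Idx K) := Subgroup.closure (Set.range (ya f))

/-- the ambient root subgroup `X_b = {x_{p₂}(u) : f u = u}` -/
noncomputable def XB : Subgroup (GL chevD4.Idx K) :=
  Subgroup.closure {g | ∃ u : K, f u = u ∧ g = xGL chevD4 K 14 u}

/-- the ambient root subgroup `X_{-b} = {x_{-p₂}(u) : f u = u}` -/
noncomputable def YB : Subgroup (GL chevD4.Idx K) :=
  Subgroup.closure {g | ∃ u : K, f u = u ∧ g = xGL chevD4 K 9 u}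

/-- the positive fundamental root subgroups of `G¹` -/
noncomputable def XpTw (q : ℕ) (a : Fin 2) : Subgroup ↥(twistedD4 K q) :=
  (if a = 0 then XA f else XB f).subgroupOf (twistedD4 K q)

/-- the negative fundamental root subgroups of `G¹` -/
noncomputable def XmTw (q : ℕ) (a : Fin 2) : Subgroup ↥(twistedD4 K q) :=
  (if a = 0 then YA f else YB f).subgroupOf (twistedD4 K q)

/-- the rank one relations for the root elements of the ambient group -/
theorem rel18 (r : ℕ) (hr : r < chevD4.nroots) : Rel (xGL chevD4 K r) (xGL chevD4 K (chevD4.neg r)) := by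
  have hadd := Cfsg.Agent.Helper40.ChevAdd.addOK_of_mem memD4
  have e : ∀ s : ℕ, xGL chevD4 K s = Cfsg.Agent.Helper40.ChevAdd.xGL chevD4 hadd K s := by
    intro s
    funext t
    apply Units.ext
    exact xGL_val chevD4 _ (triOK_of_mem chevD4 memD4) s t
  rw [e, e]
  exact Cfsg.Agent.Helper40.SL2Chev.rel chevD4 hadd memD4 r hr

theorem x_add18 (r : ℕ) (hr : r < chevD4.nroots) (s t : K) :
    xGL chevD4 K r (s + t) = xGL chevD4 K r s * xGL chevD4 K r t := by
  exact (rel18 (K := K) r hr).x_add s t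

theorem xa_add (s t : K) : xa f (s + t) = xa f s * xa f t := by
  unfold xa
  simp only [map_add]
  rw [x_add18 18 (by decide), x_add18 13 (by decide), x_add18 12 (by decide)]
  exact (mul3_comm _ _ _ _ _ _ (x_commute_x chevD4 memD4 18 13 orth_18_13 _ _).symm
    (x_commute_x chevD4 memD4 18 12 orth_18_12 _ _).symm (x_commute_x chevD4 memD4 13 12 orth_13_12 _ _).symm).symm

theorem ya_add (s t : K) : ya f (s + t) = ya f s * ya f t := by
  unfold ya
  simp only [map_add]
  rw [x_add18 5 (by decide), x_add18 10 (by decide), x_add18 11 (by decide)]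
  exact (mul3_comm _ _ _ _ _ _ (xn_commute_xn chevD4 memD4 18 13 orth_18_13 _ _).symm
    (xn_commute_xn chevD4 memD4 18 12 orth_18_12 _ _).symm (xn_commute_xn chevD4 memD4 13 12 orth_13_12 _ _).symm).symm

theorem xa_zero : xa f 0 = 1 := by
  have := xa_add f 0 0
  rw [add_zero] at this
  exact left_eq_mul.mp this

theorem ya_zero : ya f 0 = 1 := by
  have := ya_add f 0 0
  rw [add_zero] at this
  exact left_eq_mul.mp this

theorem xa_neg (t : K) : xa f (-t) = (xa f t)⁻¹ := by
  apply eq_inv_of_mul_eq_one_left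
  rw [← xa_add, neg_add_cancel, xa_zero]

theorem ya_neg (t : K) : ya f (-t) = (ya f t)⁻¹ := by
  apply eq_inv_of_mul_eq_one_left
  rw [← ya_add, neg_add_cancel, ya_zero]

/-- the elements of `X_a` -/
theorem mem_XA (g : GL chevD4.Idx K) : g ∈ XA f ↔ ∃ t, g = xa f t := by
  constructor
  · intro hg
    unfold XA at hg
    induction hg using Subgroup.closure_induction with
    | mem x hx => obtain ⟨t, rfl⟩ := hx; exact ⟨t, rfl⟩
    | one => exact ⟨0, (xa_zero f).symm⟩
    | mul a b _ _ ha hb =>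
      obtain ⟨s, rfl⟩ := ha
      obtain ⟨t, rfl⟩ := hb
      exact ⟨s + t, (xa_add f s t).symm⟩
    | inv a _ ha =>
      obtain ⟨s, rfl⟩ := ha
      exact ⟨-s, (xa_neg f s).symm⟩
  · rintro ⟨t, rfl⟩
    exact Subgroup.subset_closure ⟨t, rfl⟩

/-- the elements of `X_{-a}` -/
theorem mem_YA (g : GL chevD4.Idx K) : g ∈ YA f ↔ ∃ t, g = ya f t := by
  constructor
  · intro hg
    unfold YA at hg
    induction hg using Subgroup.closure_induction with
    | mem x hx => obtain ⟨t, rfl⟩ := hx; exact ⟨t, rfl⟩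
    | one => exact ⟨0, (ya_zero f).symm⟩
    | mul a b _ _ ha hb =>
      obtain ⟨s, rfl⟩ := ha
      obtain ⟨t, rfl⟩ := hb
      exact ⟨s + t, (ya_add f s t).symm⟩
    | inv a _ ha =>
      obtain ⟨s, rfl⟩ := ha
      exact ⟨-s, (ya_neg f s).symm⟩
  · rintro ⟨t, rfl⟩
    exact Subgroup.subset_closure ⟨t, rfl⟩

/-- the elements of `X_b` -/
theorem mem_XB (g : GL chevD4.Idx K) : g ∈ XB f ↔ ∃ u, f u = u ∧ g = xGL chevD4 K 14 u := by
  have R := rel18 (K := K) 14 (by decide)
  constructor
  · intro hg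
    unfold XB at hg
    induction hg using Subgroup.closure_induction with
    | mem x hx => exact hx
    | one => exact ⟨0, map_zero f, R.x_zero.symm⟩
    | mul a b _ _ ha hb =>
      obtain ⟨s, hs, rfl⟩ := ha
      obtain ⟨t, ht, rfl⟩ := hb
      exact ⟨s + t, by rw [map_add, hs, ht], (R.x_add s t).symm⟩
    | inv a _ ha =>
      obtain ⟨s, hs, rfl⟩ := ha
      exact ⟨-s, by rw [map_neg, hs], (R.x_neg s).symm⟩
  · intro hg
    exact Subgroup.subset_closure hg

/-- the elements of `X_{-b}` -/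
theorem mem_YB (g : GL chevD4.Idx K) : g ∈ YB f ↔ ∃ u, f u = u ∧ g = xGL chevD4 K 9 u := by
  have R := rel18 (K := K) 14 (by decide)
  constructor
  · intro hg
    unfold YB at hg
    induction hg using Subgroup.closure_induction with
    | mem x hx => exact hx
    | one => exact ⟨0, map_zero f, R.y_zero.symm⟩
    | mul a b _ _ ha hb =>
      obtain ⟨s, hs, rfl⟩ := ha
      obtain ⟨t, ht, rfl⟩ := hb
      exact ⟨s + t, by rw [map_add, hs, ht], (R.y_add s t).symm⟩
    | inv a _ ha =>
      obtain ⟨s, hs, rfl⟩ := ha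
      exact ⟨-s, by rw [map_neg, hs], (R.y_neg s).symm⟩
  · intro hg
    exact Subgroup.subset_closure hg

end

section

variable {K : Type*} [Field K] [Fintype K] {q : ℕ} (f : K ≃+* K) (hf : ∀ t, f t = t ^ q)

/-- the representative `(s_a s_b)³` of the longest element -/
noncomputable def n0Tw : ↥(twistedD4 K q) := (sTw f hf 0 * sTw f hf 1) ^ 3

omit [Fintype K] in
include hf in
theorem XA_le : XA f ≤ twistedD4 K q := by
  intro g hg
  obtain ⟨t, rfl⟩ := (mem_XA f g).mp hg
  exact xa_mem f hf t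

omit [Fintype K] in
include hf in
theorem YA_le : YA f ≤ twistedD4 K q := by
  intro g hg
  obtain ⟨t, rfl⟩ := (mem_YA f g).mp hg
  exact ya_mem f hf t

omit [Fintype K] in
include hf in
theorem XB_le : XB f ≤ twistedD4 K q := by
  intro g hg
  obtain ⟨u, hu, rfl⟩ := (mem_XB f g).mp hg
  exact x2pD4_mem f hf u hu

omit [Fintype K] in
include hf in
theorem YB_le : YB f ≤ twistedD4 K q := by
  intro g hg
  obtain ⟨u, hu, rfl⟩ := (mem_YB f g).mp hg
  exact x2mD4_mem f hf u hu

end

end Cfsg.Agent.Helper18.Tw
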