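import Cfsg.Agent.Helper18.Tw.P_Cross

/-!
Helper18 / two-generation of `³D₄(q)` (S2407), PIECE HD (two facts on the diagonal subgroup of `D₄(K)`).
-/

set_option autoImplicit false
set_option maxRecDepth 100000

namespace Cfsg.Agent.Helper18.Tw

open Cfsg Cfsg.Lie Cfsg.Agent.Helper18 Cfsg.Agent.Helper18.Aut Cfsg.Agent.Helper19.Twist
  Cfsg.Agent.Helper19.Poinc Cfsg.Agent.Helper19.Cox Cfsg.Agent.S1081 Cfsg.Agent.Helper6
  Cfsg.Agent.Helper40.SL2Hom Cfsg.Agent.S1080 Cfsg.Agent.Helper18.Sub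

/-- PIECE HD-1: the exponent of the diagonal subgroup divides `|K| - 1`. -/
theorem diag_pow_card_D4 {K : Type*} [Field K] [Fintype K] (h : GL chevD4.Idx K)
    (hh : h ∈ chevD4.diagonalSubgroup K) : h ^ (Fintype.card K - 1) = 1 := by
  obtain ⟨χ, hχ, hd, -⟩ := diagonalSubgroup_char chevD4 memD4 h hh
  apply Units.ext
  rw [Units.val_pow_eq_pow_val, hd, Matrix.diagonal_pow, Units.val_one, ← Matrix.diagonal_one]
  congr 1
  funext j
  rcases j with j | j
  · simp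
  · simp only [Pi.pow_apply, Sum.elim_inr]
    exact FiniteField.pow_card_sub_one_eq_one _ (hχ _)

theorem HD_pair_18 : pairing' chevD4 18 14 = -1 := by decide
theorem HD_pair_13 : pairing' chevD4 13 14 = -1 := by decide
theorem HD_pair_12 : pairing' chevD4 12 14 = -1 := by decide

/-- PIECE HD-2: the cross relation `h_a(c) x_b(u) h_a(c)⁻¹ = x_b(N(c)⁻¹ u)`, `N(c) = c c^q c^(q²)`. -/
theorem ha_conj_xb {K : Type*} [Field K] (f : K ≃+* K) (c : K) (hc : c ≠ 0) (u : K) :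
    h (xa f) (ya f) c * xGL chevD4 K 14 u * (h (xa f) (ya f) c)⁻¹ =
      xGL chevD4 K 14 ((c * f c * f (f c))⁻¹ * u) := by
  have hfc : f c ≠ 0 := fun e => hc ((map_eq_zero f).1 e)
  have hffc : f (f c) ≠ 0 := fun e => hfc ((map_eq_zero f).1 e)
  have hv : ∀ (r : ℕ) (s : K), ((hG chevD4 K r s : GL chevD4.Idx K) : Matrix chevD4.Idx chevD4.Idx K) =
      chevD4.hMat K r s := fun r s => hWordGL_val chevD4 memD4 r s
  rw [h_a_eq f c hc]
  have e3 := hMat_comm_xGL chevD4 memD4 (hG chevD4 K 12 (f (f c))) 12 (by decide) (f (f c)) hffc (hv _ _)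
    14 (by decide) u
  rw [HD_pair_12, zpow_neg_one] at e3
  have e2 := hMat_comm_xGL chevD4 memD4 (hG chevD4 K 13 (f c)) 13 (by decide) (f c) hfc (hv _ _)
    14 (by decide) ((f (f c))⁻¹ * u)
  rw [HD_pair_13, zpow_neg_one] at e2
  have e1 := hMat_comm_xGL chevD4 memD4 (hG chevD4 K 18 c) 18 (by decide) c hc (hv _ _)
    14 (by decide) ((f c)⁻¹ * ((f (f c))⁻¹ * u))
  rw [HD_pair_18, zpow_neg_one] at e1
  have e4 : hG chevD4 K 18 c * hG chevD4 K 13 (f c) * hG chevD4 K 12 (f (f c)) * xGL chevD4 K 14 u =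
      xGL chevD4 K 14 ((c * f c * f (f c))⁻¹ * u) *
        (hG chevD4 K 18 c * hG chevD4 K 13 (f c) * hG chevD4 K 12 (f (f c))) := by
    have e5 : (c * f c * f (f c))⁻¹ * u = c⁻¹ * ((f c)⁻¹ * ((f (f c))⁻¹ * u)) := by
      rw [mul_inv, mul_inv, mul_assoc, mul_assoc]
    rw [e5, mul_assoc (hG chevD4 K 18 c * hG chevD4 K 13 (f c)), e3, ← mul_assoc,
      mul_assoc (hG chevD4 K 18 c), e2, ← mul_assoc, e1]
    group
  rw [e4]
  group

end Cfsg.Agent.Helper18.Tw
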