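import Mathlib

/-!
Helper18 / two-generation of `³D₄(q)` (S2407), PIECE HF (two facts on finite fields).
-/

set_option autoImplicit false

namespace Cfsg.Agent.Helper18.Tw

/-- PIECE HF-1: the multiplicative group of a finite field with more than two elements has a generator `α₀ ≠ 1`;
every nonzero element is a natural power of it.
Hint: `IsCyclic Kˣ`, `IsCyclic.exists_generator`, `mem_powers_iff_mem_zpowers` (finite group); `α₀ ≠ 1` since otherwise
`Kˣ` is trivial, but `|Kˣ| = |K| - 1 ≥ 2`. -/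
theorem exists_gen_field {K : Type*} [Field K] [Fintype K] (hK : 2 < Fintype.card K) :
    ∃ α₀ : K, α₀ ≠ 0 ∧ α₀ ≠ 1 ∧ ∀ y : K, y ≠ 0 → ∃ j : ℕ, y = α₀ ^ j := by
  classical
  obtain ⟨g, hg⟩ := IsCyclic.exists_generator (α := Kˣ)
  have hpow : ∀ y : K, y ≠ 0 → ∃ j : ℕ, y = (g : K) ^ j := by
    intro y hy
    have h1 : Units.mk0 y hy ∈ Submonoid.powers g := by
      rw [mem_powers_iff_mem_zpowers]
      exact hg _
    obtain ⟨j, hj⟩ := Submonoid.mem_powers_iff _ _ |>.1 h1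
    refine ⟨j, ?_⟩
    have h2 := congrArg (fun x : Kˣ => (x : K)) hj
    simp only [Units.val_pow_eq_pow_val, Units.val_mk0] at h2
    exact h2.symm
  refine ⟨(g : K), g.ne_zero, ?_, hpow⟩
  intro h1
  -- every element is `0` or `1`, so `|K| ≤ 2`
  have hsub : (Finset.univ : Finset K) ⊆ {0, 1} := by
    intro y _
    by_cases hy : y = 0
    · simp [hy]
    · obtain ⟨j, hj⟩ := hpow y hy
      rw [h1, one_pow] at hj
      simp [hj]
  have hcard := Finset.card_le_card hsub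
  rw [Finset.card_univ] at hcard
  have h2 : ({0, 1} : Finset K).card ≤ 2 := Finset.card_le_two
  omega

/-- PIECE HF-2: the norm `α₀^(1+q+q²)` of a generator of `K*` (`|K| = q³`) generates the multiplicative group of the
fixed field of `t ↦ t^q`.
Hint: `u = α₀^i`; `u^q = u` gives `α₀^(i (q-1)) = 1`; the order of `α₀` is `q³ - 1` (`orderOf_eq_card_of_forall_mem_zpowers`
or: the powers of `α₀` exhaust the `q³ - 1` nonzero elements), so `(q³-1) ∣ i (q-1)`, i.e. `(q²+q+1) ∣ i`; then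
`u = (α₀^(q²+q+1))^(i / (q²+q+1))` and `α₀ * f α₀ * f (f α₀) = α₀^(1+q+q²)`. -/
theorem norm_gen {K : Type*} [Field K] [Fintype K] {q : ℕ} (f : K ≃+* K) (hf : ∀ t, f t = t ^ q) (hq : 2 ≤ q)
    (hK : Fintype.card K = q ^ 3) (α₀ : K) (hgen : ∀ y : K, y ≠ 0 → ∃ j : ℕ, y = α₀ ^ j)
    (u : K) (hu : u ≠ 0) (hfu : f u = u) : ∃ j : ℕ, u = (α₀ * f α₀ * f (f α₀)) ^ j := by
  classical
  have hq3 : 8 ≤ q ^ 3 := by
    calc 8 = 2 ^ 3 := by norm_num
      _ ≤ q ^ 3 := Nat.pow_le_pow_left hq 3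
  -- `α₀ ≠ 0`
  have hα0 : α₀ ≠ 0 := by
    intro h0
    have hsub : (Finset.univ : Finset K) ⊆ {0, 1} := by
      intro y _
      by_cases hy : y = 0
      · simp [hy]
      · obtain ⟨j, hj⟩ := hgen y hy
        rw [h0] at hj
        rcases Nat.eq_zero_or_pos j with hj0 | hj0
        · rw [hj0, pow_zero] at hj
          simp [hj]
        · rw [zero_pow hj0.ne'] at hj
          exact absurd hj hy
    have hcard := Finset.card_le_card hsub
    rw [Finset.card_univ, hK] at hcard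
    have h2 : ({0, 1} : Finset K).card ≤ 2 := Finset.card_le_two
    omega
  -- the order of `α₀` is `q³ - 1`
  set g : Kˣ := Units.mk0 α₀ hα0 with hg
  have hgz : ∀ y : Kˣ, y ∈ Subgroup.zpowers g := by
    intro y
    obtain ⟨j, hj⟩ := hgen (y : K) y.ne_zero
    refine ⟨(j : ℤ), ?_⟩
    apply Units.ext
    simp only [zpow_natCast, Units.val_pow_eq_pow_val, hg, Units.val_mk0]
    exact hj.symm
  have hord : orderOf α₀ = q ^ 3 - 1 := by
    have h1 : orderOf g = Nat.card Kˣ := orderOf_eq_card_of_forall_mem_zpowers hgz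
    have h2 : orderOf (g : K) = orderOf g := orderOf_units
    rw [Nat.card_units, Nat.card_eq_fintype_card, hK] at h1
    rw [← h1, ← h2, hg, Units.val_mk0]
  -- `u = α₀ ^ i` with `(q² + q + 1) ∣ i`
  obtain ⟨i, hi⟩ := hgen u hu
  have h1 : α₀ ^ (i * q) = α₀ ^ i := by
    rw [pow_mul, ← hi, ← hf, hfu]
  have hqpos : 1 ≤ q := le_trans (by norm_num) hq
  have h2 : α₀ ^ (i * (q - 1)) = 1 := by
    have h3 : α₀ ^ (i * (q - 1)) * α₀ ^ i = 1 * α₀ ^ i := by
      rw [← pow_add, one_mul]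
      have : i * (q - 1) + i = i * q := by
        obtain ⟨r, rfl⟩ : ∃ r, q = r + 1 := ⟨q - 1, by omega⟩
        simp only [Nat.add_sub_cancel]
        ring
      rw [this, h1]
    exact mul_right_cancel₀ (pow_ne_zero i hα0) h3
  have hdvd : q ^ 3 - 1 ∣ i * (q - 1) := by
    rw [← hord]
    exact orderOf_dvd_of_pow_eq_one h2
  have hfac : q ^ 3 - 1 = (q ^ 2 + q + 1) * (q - 1) := by
    obtain ⟨r, rfl⟩ : ∃ r, q = r + 1 := ⟨q - 1, by omega⟩
    simp only [Nat.add_sub_cancel]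
    have : (r + 1) ^ 3 = ((r + 1) ^ 2 + (r + 1) + 1) * r + 1 := by ring
    rw [this, Nat.add_sub_cancel]
  rw [hfac] at hdvd
  have hdvd' : q ^ 2 + q + 1 ∣ i :=
    Nat.dvd_of_mul_dvd_mul_right (by omega : 0 < q - 1) hdvd
  obtain ⟨m, hm⟩ := hdvd'
  refine ⟨m, ?_⟩
  have hnorm : α₀ * f α₀ * f (f α₀) = α₀ ^ (q ^ 2 + q + 1) := by
    rw [hf (f α₀), hf α₀]
    ring
  rw [hnorm, ← pow_mul, ← hm]
  exact hi

end Cfsg.Agent.Helper18.Tw
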