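import Cfsg.Agent.Helper18.Tw.D4Aut
import Cfsg.Agent.Helper18.Gen.Abs
import Cfsg.Agent.Helper18.Tw.H_Field
import Cfsg.Agent.Helper18.Tw.H_Diag

/-!
Helper18: the triality twisted groups `³D₄(q)` are generated by two elements (after Steinberg): `a = h x_b(1)` with `h`
in the torus, centralising `X_{±b}` and acting on `X_a` through a generator of `K*`, and `b = x_a(1) s_a s_b`.
-/

set_option autoImplicit false
set_option maxRecDepth 100000

namespace Cfsg.Agent.Helper18.Tw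

open Cfsg Cfsg.Lie Cfsg.Agent.Helper18 Cfsg.Agent.Helper18.Aut Cfsg.Agent.Helper19.Twist
  Cfsg.Agent.Helper19.Poinc Cfsg.Agent.Helper19.Cox Cfsg.Agent.S1081 Cfsg.Agent.Helper6
  Cfsg.Agent.Helper40.SL2Hom Cfsg.Agent.S1080 Cfsg.Agent.Helper18.Sub Cfsg.Agent.Helper18.Gen

section

variable {K : Type*} [Field K] [Fintype K] {q : ℕ} (f : K ≃+* K) (hf : ∀ t, f t = t ^ q)

theorem coe_w_a (t : K) :
    ((w (xaS f hf) (yaS f hf) t : ↥(twistedD4 K q)) : GL chevD4.Idx K) = w (xa f) (ya f) t := by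
  unfold w
  simp only [Subgroup.coe_mul, xaS_coe, yaS_coe]

theorem coe_h_a (t : K) :
    ((h (xaS f hf) (yaS f hf) t : ↥(twistedD4 K q)) : GL chevD4.Idx K) = h (xa f) (ya f) t := by
  unfold h
  simp only [Subgroup.coe_mul, Subgroup.coe_inv, coe_w_a]

theorem coe_w_b (u : k0 f) :
    ((w (xbS f hf) (ybS f hf) u : ↥(twistedD4 K q)) : GL chevD4.Idx K) =
      w (xGL chevD4 K 14) (xGL chevD4 K 9) (u : K) := by
  unfold w
  simp only [Subgroup.coe_mul, xbS_coe, ybS_coe]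
  push_cast
  rfl

include hf in
/-- the triality twisted groups are generated by two elements -/
theorem gen2_D4 (p : ℕ) [Fact p.Prime] [CharP K p] (hq : IsPrimePow q) (hK : Fintype.card K = q ^ 3) :
    ∃ a b : ↥(twistedD4 K q), Subgroup.closure ({a, b} : Set ↥(twistedD4 K q)) = ⊤ := by
  have hp : p.Prime := Fact.out
  have hq2 : 2 ≤ q := hq.two_le
  have hcard : 2 < Fintype.card K := by
    rw [hK]
    calc 2 < 2 ^ 3 := by norm_num
      _ ≤ q ^ 3 := Nat.pow_le_pow_left hq2 3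
  obtain ⟨α₀, hα0, hα1, hαgen⟩ := exists_gen_field (K := K) hcard
  obtain ⟨h₀, hH, hG, a1, a2, a3, a4⟩ := exists_diag f hf hq2 hK α₀ 1 hα0 one_ne_zero (map_one f)
  obtain ⟨P, -, -, H⟩ := twD4_L1Hyp f hf p hq hK
  -- the rank one systems in `G¹`
  have Ra : Rel (xaS f hf) (yaS f hf) := rel_subtype (twistedD4 K q) (xaS f hf) (yaS f hf) (rel_a f)
  have hneg : chevD4.neg 14 = 9 := by decide
  have R0 : Rel (xGL chevD4 K 14) (xGL chevD4 K 9) := by
    have := rel18 (K := K) 14 (by decide)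
    rwa [hneg] at this
  have Rb : Rel (xbS f hf) (ybS f hf) :=
    rel_subtype (twistedD4 K q) (xbS f hf) (ybS f hf) (rel_subfield (k0 f) _ _ R0)
  set hS : ↥(twistedD4 K q) := ⟨h₀, hG⟩ with hhS
  have hx : ∀ t, hS * xaS f hf t * hS⁻¹ = xaS f hf (α₀ * t) := fun t => Subtype.ext (a1 t)
  have hy : ∀ t, hS * yaS f hf t * hS⁻¹ = yaS f hf (α₀⁻¹ * t) := fun t => Subtype.ext (a2 t)
  have hxb : ∀ u : k0 f, hS * xbS f hf u * hS⁻¹ = xbS f hf u := by
    intro u
    apply Subtype.ext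
    have := a3 (u : K)
    rw [one_mul] at this
    exact this
  have hyb : ∀ u : k0 f, hS * ybS f hf u * hS⁻¹ = ybS f hf u := by
    intro u
    apply Subtype.ext
    refine (a4 (u : K)).trans ?_
    congr 1
    simp
  have hcomm_of : ∀ g : ↥(twistedD4 K q), hS * g * hS⁻¹ = g → Commute hS g := by
    intro g hg
    show hS * g = g * hS
    calc hS * g = hS * g * hS⁻¹ * hS := by group
      _ = g * hS := by rw [hg]
  set sb : ↥(twistedD4 K q) := w (xbS f hf) (ybS f hf) 1 with hsb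
  set e : ↥(twistedD4 K q) := xbS f hf 1 with he
  have hs : Commute hS sb := by
    rw [hsb]
    unfold w
    exact ((hcomm_of _ (hxb _)).mul_right (hcomm_of _ (hyb _))).mul_right (hcomm_of _ (hxb _))
  have hec : Commute hS e := hcomm_of _ (hxb _)
  have hN : hS ^ (Fintype.card K - 1) = 1 := by
    apply Subtype.ext
    rw [Subgroup.coe_pow]
    exact diag_pow_card_D4 h₀ hH
  have hpe : e ^ p = 1 := by
    have key : ∀ n : ℕ, e ^ n = xbS f hf (n : k0 f) := by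
      intro n
      induction n with
      | zero => simp [Rb.x_zero]
      | succ n ih =>
        rw [pow_succ, ih, he, ← Rb.x_add]
        congr 1
        push_cast
        rfl
    rw [key]
    have : ((p : ℕ) : k0 f) = 0 := by
      apply Subtype.ext
      push_cast
      exact CharP.cast_eq_zero K p
    rw [this, Rb.x_zero]
  have hcop : Nat.Coprime (Fintype.card K - 1) p := by
    have hdvd : p ∣ Fintype.card K := (CharP.cast_eq_zero_iff K p _).mp (Nat.cast_card_eq_zero K)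
    apply Nat.Coprime.symm
    rw [Nat.Prime.coprime_iff_not_dvd hp]
    intro h1
    have h2 : p ∣ Fintype.card K - (Fintype.card K - 1) := Nat.dvd_sub hdvd h1
    have h3 : Fintype.card K - (Fintype.card K - 1) = 1 := by omega
    rw [h3] at h2
    exact hp.one_lt.ne' (Nat.dvd_one.mp h2)
  refine ⟨hS * e, xaS f hf 1 * (w (xaS f hf) (yaS f hf) 1 * sb), ?_⟩
  set L := Subgroup.closure ({hS * e, xaS f hf 1 * (w (xaS f hf) (yaS f hf) 1 * sb)} :
    Set ↥(twistedD4 K q)) with hL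
  have h1L : hS * e ∈ L := Subgroup.subset_closure (Set.mem_insert _ _)
  have h2L : xaS f hf 1 * (w (xaS f hf) (yaS f hf) 1 * sb) ∈ L :=
    Subgroup.subset_closure (Set.mem_insert_of_mem _ rfl)
  obtain ⟨hhL, heL, hxaL, hnL⟩ := gen_step Ra hS α₀ hx hy sb e hs hec _ p hN hpe hcop hα0 hα1 hαgen L h1L h2L
  -- the longest element
  have hsa : w (xaS f hf) (yaS f hf) 1 = sTw f hf 0 := by
    apply Subtype.ext
    rw [coe_w_a, sTw0_eq]
  have hsb' : sb = sTw f hf 1 := by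
    apply Subtype.ext
    rw [hsb, coe_w_b, sTw1_eq]
    push_cast
    rfl
  have hn₀L : n0Tw f hf ∈ L := by
    unfold n0Tw
    rw [← hsa, ← hsb']
    exact L.pow_mem hnL 3
  have hXeq := H.Xp_eq
  have hneg : ∀ (a : Fin 2) (y : ↥(twistedD4 K q)), y ∈ XmTw f q a → (∀ x ∈ XpTw f q a, x ∈ L) → y ∈ L := by
    intro a y hy hX
    have h1 : n0Tw f hf * y * (n0Tw f hf)⁻¹ ∈ XpTw f q a := by
      have := hXeq a
      simp only [id] at this
      rw [← this]
      exact conj_mem_cjg hy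
    have : y = (n0Tw f hf)⁻¹ * (n0Tw f hf * y * (n0Tw f hf)⁻¹) * n0Tw f hf := by group
    rw [this]
    exact L.mul_mem (L.mul_mem (L.inv_mem hn₀L) (hX _ h1)) hn₀L
  have hXp0 : ∀ x ∈ XpTw f q 0, x ∈ L := by
    intro x hx
    obtain ⟨t, rfl⟩ := mem_Xp0 f hf x hx
    exact hxaL t
  have hyaL : ∀ t, yaS f hf t ∈ L := fun t => hneg 0 _ (yaS_mem f hf t) hXp0
  -- `s_a ∈ L` and the conjugate of `h`
  have hsaL : w (xaS f hf) (yaS f hf) 1 ∈ L := by
    unfold w
    exact L.mul_mem (L.mul_mem (hxaL _) (hyaL _)) (hxaL _)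
  set h₂ : ↥(twistedD4 K q) := w (xaS f hf) (yaS f hf) 1 * hS * (w (xaS f hf) (yaS f hf) 1)⁻¹ with hh₂
  have hh₂L : h₂ ∈ L := L.mul_mem (L.mul_mem hsaL hhL) (L.inv_mem hsaL)
  have hh₂eq : h₂ = (h (xaS f hf) (yaS f hf) α₀)⁻¹ * hS := conj_by_w hS α₀ hx hy hα0
  set β : K := α₀ * f α₀ * f (f α₀) with hβ
  have hβk : β ∈ k0 f := by
    rw [mem_k0, hβ, map_mul, map_mul]
    have h3 : f (f (f α₀)) = α₀ := by
      rw [hf, hf, hf, ← pow_mul, ← pow_mul]
      have hqq : q * (q * q) = Fintype.card K := by rw [hK]; ring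
      rw [hqq]
      exact FiniteField.pow_card α₀
    rw [h3]
    ring
  have hh₂b : ∀ u : k0 f, h₂ * xbS f hf u * h₂⁻¹ = xbS f hf (⟨β, hβk⟩ * u) := by
    intro u
    have e1 : h₂ * xbS f hf u * h₂⁻¹ =
        (h (xaS f hf) (yaS f hf) α₀)⁻¹ * (hS * xbS f hf u * hS⁻¹) * h (xaS f hf) (yaS f hf) α₀ := by
      rw [hh₂eq]; group
    rw [e1, hxb]
    -- conjugate back
    have e2 := ha_conj_xb f α₀ hα0 (β * (u : K))
    have e3 : (α₀ * f α₀ * f (f α₀))⁻¹ * (β * (u : K)) = (u : K) := by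
      rw [← hβ]
      have hβ0 : β ≠ 0 := by
        rw [hβ]
        exact mul_ne_zero (mul_ne_zero hα0 ((map_ne_zero f).mpr hα0)) ((map_ne_zero f).mpr ((map_ne_zero f).mpr hα0))
      field_simp
    rw [e3] at e2
    apply Subtype.ext
    simp only [Subgroup.coe_mul, Subgroup.coe_inv, coe_h_a, xbS_coe]
    rw [← e2]
    push_cast
    group
  have hpowb : ∀ j : ℕ, h₂ ^ j * e * (h₂ ^ j)⁻¹ = xbS f hf (⟨β, hβk⟩ ^ j) := by
    intro j
    induction j with
    | zero => simp [he]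
    | succ j ih =>
      have : h₂ ^ (j + 1) * e * (h₂ ^ (j + 1))⁻¹ = h₂ * (h₂ ^ j * e * (h₂ ^ j)⁻¹) * h₂⁻¹ := by
        rw [pow_succ']; group
      rw [this, ih, hh₂b, pow_succ']
  have hxbL : ∀ u : k0 f, xbS f hf u ∈ L := by
    intro u
    by_cases hu : u = 0
    · rw [hu, Rb.x_zero]; exact L.one_mem
    have hu' : (u : K) ≠ 0 := fun h0 => hu (Subtype.ext h0)
    obtain ⟨j, hj⟩ := norm_gen f hf hq2 hK α₀ hαgen (u : K) hu' u.2
    have : u = ⟨β, hβk⟩ ^ j := by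
      apply Subtype.ext
      push_cast
      exact hj
    rw [this, ← hpowb j]
    exact L.mul_mem (L.mul_mem (L.pow_mem hh₂L j) heL) (L.inv_mem (L.pow_mem hh₂L j))
  have hXp1 : ∀ x ∈ XpTw f q 1, x ∈ L := by
    intro x hx
    obtain ⟨u, rfl⟩ := mem_Xp1 f hf x hx
    exact hxbL u
  have hybL : ∀ u : k0 f, ybS f hf u ∈ L := fun u => hneg 1 _ (ybS_mem f hf u) hXp1
  -- conclusion
  rw [eq_top_iff]
  have hle : twistedD4 K q ≤ L.map (twistedD4 K q).subtype := by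
    unfold twistedD4 ChevalleyDatum.genSubgroup
    rw [Subgroup.closure_le]
    intro g hg
    rcases EX_gen_cases f hf g hg with ⟨t, rfl⟩ | ⟨t, rfl⟩ | ⟨u, hu, rfl⟩ | ⟨u, hu, rfl⟩
    · exact ⟨xaS f hf t, hxaL t, rfl⟩
    · exact ⟨yaS f hf t, hyaL t, rfl⟩
    · exact ⟨xbS f hf ⟨u, hu⟩, hxbL _, rfl⟩
    · exact ⟨ybS f hf ⟨u, hu⟩, hybL _, rfl⟩
  rintro g -
  obtain ⟨g', hg', e'⟩ := hle g.2
  have : g' = g := Subtype.ext e'
  rw [← this]
  exact hg'

end

end Cfsg.Agent.Helper18.Tw
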