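import Cfsg.Agent.Helper18.Tw.D4L2Defs
import Cfsg.Agent.Helper18.Tw.P_Fix
import Cfsg.Agent.Helper18.Aut.Level2

/-!
Helper18 / twisted D4 automorphisms, PIECE LA (the hypotheses of the second step for the two twisted roots).
-/

set_option autoImplicit false
set_option maxRecDepth 100000

namespace Cfsg.Agent.Helper18.Tw

open Cfsg Cfsg.Lie Cfsg.Agent.Helper18 Cfsg.Agent.Helper18.Aut Cfsg.Agent.Helper19.Twist
  Cfsg.Agent.Helper19.Poinc Cfsg.Agent.Helper19.Cox Cfsg.Agent.S1081 Cfsg.Agent.Helper6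
  Cfsg.Agent.Helper40.SL2Hom Cfsg.Agent.S1080 Cfsg.Agent.Helper18.Sub

/-- the rank one relations restrict to a subfield -/
theorem rel_subfield {F Γ : Type*} [Field F] [Group Γ] (k : Subfield F) (x y : F → Γ) (R : Rel x y) :
    Rel (fun u : k => x (u : F)) (fun u : k => y (u : F)) where
  x_add := fun s t => by
    show x ((s + t : k) : F) = _
    rw [Subfield.coe_add]
    exact R.x_add _ _
  y_add := fun s t => by
    show y ((s + t : k) : F) = _
    rw [Subfield.coe_add]
    exact R.y_add _ _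
  conj := fun t u ht => by
    have ht' : (t : F) ≠ 0 := fun e => ht (Subtype.ext e)
    have := R.conj (t : F) (u : F) ht'
    simp only [w] at this ⊢
    simpa [Subfield.coe_neg, Subfield.coe_inv, Subfield.coe_mul] using this
  h_mul := fun s t hs ht => by
    have hs' : (s : F) ≠ 0 := fun e => hs (Subtype.ext e)
    have ht' : (t : F) ≠ 0 := fun e => ht (Subtype.ext e)
    have := R.h_mul (s : F) (t : F) hs' ht'
    simp only [h, w] at this ⊢
    simpa [Subfield.coe_neg, Subfield.coe_inv, Subfield.coe_mul, Subfield.coe_one] using this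

/-- negative root elements lie in `V` -/
theorem xGL_mem_negUnipotent_D4 {K : Type*} [Field K] (k : ℕ) (hk : chevD4.IsNegRoot k) (t : K) :
    xGL chevD4 K k t ∈ chevD4.negUnipotent K := by
  apply Subgroup.subset_closure
  exact ⟨k, t, hk, xGL_val chevD4 _ (triOK_of_mem chevD4 memD4) k t⟩

/-- positive root elements lie in `U` -/
theorem xGL_mem_posUnipotent_D4 {K : Type*} [Field K] (k : ℕ) (hk : chevD4.IsPosRoot k) (t : K) :
    xGL chevD4 K k t ∈ chevD4.posUnipotent K := by
  apply Subgroup.subset_closure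
  exact ⟨k, t, hk, xGL_val chevD4 _ (triOK_of_mem chevD4 memD4) k t⟩

theorem ya_mem_negUnipotent {K : Type*} [Field K] (f : K ≃+* K) (u : K) :
    ya f u ∈ chevD4.negUnipotent K := by
  unfold ya
  exact mul_mem (mul_mem (xGL_mem_negUnipotent_D4 5 (by decide) _)
    (xGL_mem_negUnipotent_D4 10 (by decide) _)) (xGL_mem_negUnipotent_D4 11 (by decide) _)

/-- PIECE LA1: the hypotheses `L2Hyp` (index set `Unit`, field `K`) for `x_a`, `x_{-a}` in `G¹`
(`rel_subtype` + `rel_a`; `xa_inj`, `ya_inj`; `disj` from `xa_mem_neg`; `hx` from `Rel.h_x`) -/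
theorem l2_a {K : Type*} [Field K] [Fintype K] {q : ℕ} (f : K ≃+* K) (hf : ∀ t, f t = t ^ q) :
    L2Hyp (Γ := ↥(twistedD4 K q)) (F := K) (I := Unit) (fun _ _ => (2 : ℤ))
      (fun _ => xaS f hf) (fun _ => yaS f hf) := by
  have R : Rel (xaS f hf) (yaS f hf) :=
    rel_subtype (twistedD4 K q) (xaS f hf) (yaS f hf) (rel_a f)
  refine ⟨fun _ => R, fun _ s t hst => ?_, fun _ s t hst => ?_, fun _ t u htu => ?_, fun _ => rfl,
    fun _ _ t u ht => ?_⟩
  · exact xa_inj f (congrArg Subtype.val hst)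
  · exact ya_inj f (congrArg Subtype.val hst)
  · apply xa_mem_neg f t
    have e : xa f t = ya f u := congrArg Subtype.val htu
    rw [e]
    exact ya_mem_negUnipotent f u
  · rw [R.h_x t u ht]
    congr 1
    rw [zpow_ofNat, sq]

/-- PIECE LA2: the same for `x_b`, `x_{-b}` over the fixed field `k₀` (restrict `rel18 14` to `k₀`) -/
theorem l2_b {K : Type*} [Field K] [Fintype K] {q : ℕ} (f : K ≃+* K) (hf : ∀ t, f t = t ^ q) :
    L2Hyp (Γ := ↥(twistedD4 K q)) (F := ↥(k0 f)) (I := Unit) (fun _ _ => (2 : ℤ))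
      (fun _ => xbS f hf) (fun _ => ybS f hf) := by
  have hneg : chevD4.neg 14 = 9 := by decide
  have R0 : Rel (xGL chevD4 K 14) (xGL chevD4 K 9) := by
    have := rel18 (K := K) 14 (by decide)
    rwa [hneg] at this
  have R : Rel (xbS f hf) (ybS f hf) :=
    rel_subtype (twistedD4 K q) (xbS f hf) (ybS f hf) (rel_subfield (k0 f) _ _ R0)
  have htri := triOK_of_mem chevD4 memD4
  refine ⟨fun _ => R, fun _ s t hst => ?_, fun _ s t hst => ?_, fun _ t u htu => ?_, fun _ => rfl,
    fun _ _ t u ht => ?_⟩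
  · have e : xGL chevD4 K 14 (s : K) = xGL chevD4 K 14 (t : K) := congrArg Subtype.val hst
    exact Subtype.ext (xGL_injective chevD4 memD4 14 (by decide) e)
  · have e : xGL chevD4 K 9 (s : K) = xGL chevD4 K 9 (t : K) := congrArg Subtype.val hst
    exact Subtype.ext (xGL_injective chevD4 memD4 9 (by decide) e)
  · have e : xGL chevD4 K 14 (t : K) = xGL chevD4 K 9 (u : K) := congrArg Subtype.val htu
    have h1 : xGL chevD4 K 14 (t : K) ∈ chevD4.posUnipotent K ⊓ chevD4.negUnipotent K := by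
      refine ⟨xGL_mem_posUnipotent_D4 14 (by decide) _, ?_⟩
      rw [e]
      exact xGL_mem_negUnipotent_D4 9 (by decide) _
    rw [pos_inf_neg' (F := K) chevD4 memD4, Subgroup.mem_bot, ← R0.x_zero] at h1
    exact Subtype.ext (xGL_injective chevD4 memD4 14 (by decide) h1)
  · rw [R.h_x t u ht]
    congr 1
    rw [zpow_ofNat, sq]

end Cfsg.Agent.Helper18.Tw
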