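import Cfsg.Agent.Helper18.Tw.D4Sub

/-!
Helper18 / twisted D4 automorphisms, PIECE R (rank one relations for the twisted root `a`).
(Proofs: helper4; the abstract part follows helper5's `Helper36/TwE6/P_Rel.lean`.)
-/

set_option autoImplicit false
set_option maxRecDepth 100000

namespace Cfsg.Agent.Helper18.Tw

open Cfsg Cfsg.Lie Cfsg.Agent.Helper18 Cfsg.Agent.Helper18.Aut Cfsg.Agent.Helper19.Twist
  Cfsg.Agent.Helper19.Poinc Cfsg.Agent.Helper19.Cox Cfsg.Agent.S1081 Cfsg.Agent.Helper6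
  Cfsg.Agent.Helper40.SL2Hom

private theorem RE_mul2_comm {G : Type*} [Group G] (a1 a2 b1 b2 : G) (h21 : Commute a2 b1) :
    (a1 * a2) * (b1 * b2) = (a1 * b1) * (a2 * b2) := by
  calc (a1 * a2) * (b1 * b2) = a1 * (a2 * b1) * b2 := by group
    _ = (a1 * b1) * (a2 * b2) := by rw [h21.eq]; group

/-- the `w` of the two systems commute -/
theorem RE_w_commute {F Γ : Type*} [Field F] [Group Γ] (x₁ y₁ x₂ y₂ : F → Γ)
    (hxx : ∀ s t, Commute (x₁ s) (x₂ t)) (hxy : ∀ s t, Commute (x₁ s) (y₂ t))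
    (hyx : ∀ s t, Commute (y₁ s) (x₂ t)) (hyy : ∀ s t, Commute (y₁ s) (y₂ t)) (s t : F) :
    Commute (w x₁ y₁ s) (w x₂ y₂ t) := by
  have hxw2 : ∀ s t, Commute (x₁ s) (w x₂ y₂ t) := fun s t =>
    ((hxx s t).mul_right (hxy s _)).mul_right (hxx s t)
  have hyw2 : ∀ s t, Commute (y₁ s) (w x₂ y₂ t) := fun s t =>
    ((hyx s t).mul_right (hyy s _)).mul_right (hyx s t)
  exact ((hxw2 s t).mul_left (hyw2 _ t)).mul_left (hxw2 s t)

/-- the `w` of the product of two commuting systems -/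
theorem RE_w_prod {F Γ : Type*} [Field F] [Group Γ] (x₁ y₁ x₂ y₂ : F → Γ) (g : F →+* F)
    (hxx : ∀ s t, Commute (x₁ s) (x₂ t)) (hxy : ∀ s t, Commute (x₁ s) (y₂ t))
    (hyx : ∀ s t, Commute (y₁ s) (x₂ t)) (t : F) :
    w (fun t => x₁ t * x₂ (g t)) (fun t => y₁ t * y₂ (g t)) t = w x₁ y₁ t * w x₂ y₂ (g t) := by
  show (x₁ t * x₂ (g t)) * (y₁ (-t⁻¹) * y₂ (g (-t⁻¹))) * (x₁ t * x₂ (g t)) =
    (x₁ t * y₁ (-t⁻¹) * x₁ t) * (x₂ (g t) * y₂ (-(g t)⁻¹) * x₂ (g t))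
  rw [map_neg, map_inv₀]
  rw [RE_mul2_comm (x₁ t) (x₂ (g t)) (y₁ (-t⁻¹)) (y₂ (-(g t)⁻¹)) (hyx _ _).symm]
  rw [RE_mul2_comm (x₁ t * y₁ (-t⁻¹)) (x₂ (g t) * y₂ (-(g t)⁻¹)) (x₁ t) (x₂ (g t))
    ((hxx _ _).symm.mul_left (hxy _ _).symm)]

/-- the `h` of the product of two commuting systems -/
theorem RE_h_prod {F Γ : Type*} [Field F] [Group Γ] (x₁ y₁ x₂ y₂ : F → Γ) (g : F →+* F)
    (hxx : ∀ s t, Commute (x₁ s) (x₂ t)) (hxy : ∀ s t, Commute (x₁ s) (y₂ t))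
    (hyx : ∀ s t, Commute (y₁ s) (x₂ t)) (hyy : ∀ s t, Commute (y₁ s) (y₂ t)) (t : F) :
    h (fun t => x₁ t * x₂ (g t)) (fun t => y₁ t * y₂ (g t)) t = h x₁ y₁ t * h x₂ y₂ (g t) := by
  have hw1w2 := RE_w_commute x₁ y₁ x₂ y₂ hxx hxy hyx hyy
  unfold h
  rw [RE_w_prod x₁ y₁ x₂ y₂ g hxx hxy hyx, RE_w_prod x₁ y₁ x₂ y₂ g hxx hxy hyx, map_one,
    _root_.mul_inv_rev, ← (hw1w2 1 1).inv_inv.eq]
  exact RE_mul2_comm _ _ _ _ (hw1w2 1 (g t)).symm.inv_right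

/-- PIECE R0 (abstract): the product of two elementwise commuting rank one systems, the second twisted by a ring
homomorphism, is a rank one system. (`w`, `h` of the product are the products of the `w`'s, `h`'s.) -/
theorem rel_prod {F Γ : Type*} [Field F] [Group Γ] (x₁ y₁ x₂ y₂ : F → Γ) (g : F →+* F)
    (R₁ : Rel x₁ y₁) (R₂ : Rel x₂ y₂)
    (hxx : ∀ s t, Commute (x₁ s) (x₂ t)) (hxy : ∀ s t, Commute (x₁ s) (y₂ t))
    (hyx : ∀ s t, Commute (y₁ s) (x₂ t)) (hyy : ∀ s t, Commute (y₁ s) (y₂ t)) :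
    Rel (fun t => x₁ t * x₂ (g t)) (fun t => y₁ t * y₂ (g t)) := by
  have hw1x : ∀ s t, Commute (w x₁ y₁ s) (x₂ t) := fun s t =>
    ((hxx s t).mul_left (hyx _ t)).mul_left (hxx s t)
  have hxw2 : ∀ s t, Commute (x₁ s) (w x₂ y₂ t) := fun s t =>
    ((hxx s t).mul_right (hxy s _)).mul_right (hxx s t)
  have hw1w2 := RE_w_commute x₁ y₁ x₂ y₂ hxx hxy hyx hyy
  have hw := RE_w_prod x₁ y₁ x₂ y₂ g hxx hxy hyx
  have hh := RE_h_prod x₁ y₁ x₂ y₂ g hxx hxy hyx hyy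
  refine ⟨?_, ?_, ?_, ?_⟩
  · intro s t
    show x₁ (s + t) * x₂ (g (s + t)) = (x₁ s * x₂ (g s)) * (x₁ t * x₂ (g t))
    rw [map_add, R₁.x_add, R₂.x_add]
    exact RE_mul2_comm _ _ _ _ (hxx _ _)
  · intro s t
    show y₁ (s + t) * y₂ (g (s + t)) = (y₁ s * y₂ (g s)) * (y₁ t * y₂ (g t))
    rw [map_add, R₁.y_add, R₂.y_add]
    exact RE_mul2_comm _ _ _ _ (hyy _ _)
  · intro t u ht
    have hgt : g t ≠ 0 := (map_ne_zero g).2 ht
    rw [hw]
    show w x₁ y₁ t * w x₂ y₂ (g t) * (x₁ u * x₂ (g u)) * (w x₁ y₁ t * w x₂ y₂ (g t))⁻¹ =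
      y₁ (-(t⁻¹ * t⁻¹ * u)) * y₂ (g (-(t⁻¹ * t⁻¹ * u)))
    rw [map_neg, map_mul, map_mul, map_inv₀, ← R₁.conj t u ht, ← R₂.conj (g t) (g u) hgt]
    rw [RE_mul2_comm _ _ _ _ (hxw2 u (g t)).symm, _root_.mul_inv_rev,
      ← (hw1w2 t (g t)).inv_inv.eq]
    rw [RE_mul2_comm _ _ _ _ ((hw1w2 t (g t)).symm.mul_left (hw1x t (g u)).symm).inv_right]
  · intro s t hs ht
    rw [hh, hh, hh, map_mul, R₁.h_mul s t hs ht,
      R₂.h_mul (g s) (g t) ((map_ne_zero g).2 hs) ((map_ne_zero g).2 ht)]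
    refine RE_mul2_comm _ _ _ _ ?_
    unfold h
    exact ((hw1w2 _ _).mul_right (hw1w2 _ _).inv_right).mul_left
      ((hw1w2 _ _).inv_left.mul_right (hw1w2 _ _).inv_inv)

section

variable {K : Type*} [Field K]

theorem RE_neg18 : chevD4.neg 18 = 5 := by decide
theorem RE_neg13 : chevD4.neg 13 = 10 := by decide
theorem RE_neg12 : chevD4.neg 12 = 11 := by decide
theorem RE_neg14 : chevD4.neg 14 = 9 := by decide

theorem RE_rel18 : Rel (xGL chevD4 K 18) (xGL chevD4 K 5) := rel18 (K := K) 18 (by decide)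
theorem RE_rel13 : Rel (xGL chevD4 K 13) (xGL chevD4 K 10) := rel18 (K := K) 13 (by decide)
theorem RE_rel12 : Rel (xGL chevD4 K 12) (xGL chevD4 K 11) := rel18 (K := K) 12 (by decide)
theorem RE_rel14 : Rel (xGL chevD4 K 14) (xGL chevD4 K 9) := rel18 (K := K) 14 (by decide)

/-- the first two factors -/
theorem RE_rel2 (f : K ≃+* K) :
    Rel (fun t => xGL chevD4 K 18 t * xGL chevD4 K 13 ((f : K →+* K) t))
      (fun t => xGL chevD4 K 5 t * xGL chevD4 K 10 ((f : K →+* K) t)) :=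
  rel_prod _ _ _ _ (f : K →+* K) RE_rel18 RE_rel13
    (fun s t => x_commute_x chevD4 memD4 18 13 orth_18_13 s t)
    (fun s t => x_commute_xn chevD4 memD4 18 13 orth_18_13 s t)
    (fun s t => xn_commute_x chevD4 memD4 18 13 orth_18_13 s t)
    (fun s t => xn_commute_xn chevD4 memD4 18 13 orth_18_13 s t)

theorem RE_c1 (f : K ≃+* K) (s t : K) :
    Commute (xGL chevD4 K 18 s * xGL chevD4 K 13 ((f : K →+* K) s)) (xGL chevD4 K 12 t) :=
  (x_commute_x chevD4 memD4 18 12 orth_18_12 _ _).mul_left (x_commute_x chevD4 memD4 13 12 orth_13_12 _ _)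

theorem RE_c2 (f : K ≃+* K) (s t : K) :
    Commute (xGL chevD4 K 18 s * xGL chevD4 K 13 ((f : K →+* K) s)) (xGL chevD4 K 11 t) :=
  (x_commute_xn chevD4 memD4 18 12 orth_18_12 _ _).mul_left (x_commute_xn chevD4 memD4 13 12 orth_13_12 _ _)

theorem RE_c3 (f : K ≃+* K) (s t : K) :
    Commute (xGL chevD4 K 5 s * xGL chevD4 K 10 ((f : K →+* K) s)) (xGL chevD4 K 12 t) :=
  (xn_commute_x chevD4 memD4 18 12 orth_18_12 _ _).mul_left (xn_commute_x chevD4 memD4 13 12 orth_13_12 _ _)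

theorem RE_c4 (f : K ≃+* K) (s t : K) :
    Commute (xGL chevD4 K 5 s * xGL chevD4 K 10 ((f : K →+* K) s)) (xGL chevD4 K 11 t) :=
  (xn_commute_xn chevD4 memD4 18 12 orth_18_12 _ _).mul_left (xn_commute_xn chevD4 memD4 13 12 orth_13_12 _ _)

/-- `w` of the ambient rank one system is `n_r` -/
theorem RE_w_eq_nG (r : ℕ) (t : K) :
    w (xGL chevD4 K r) (xGL chevD4 K (chevD4.neg r)) t = nG chevD4 K r t := by
  rw [nG_eq]; rfl

/-- `h` of the ambient rank one system is `h_r` -/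
theorem RE_h_eq_hG (r : ℕ) (hr : r < chevD4.nroots) (t : K) :
    h (xGL chevD4 K r) (xGL chevD4 K (chevD4.neg r)) t = hG chevD4 K r t := by
  have R := rel18 (K := K) r hr
  unfold h
  rw [← R.w_neg, hG_eq, RE_w_eq_nG, RE_w_eq_nG]

end

/-- PIECE R1: the rank one relations for `x_a`, `x_{-a}` (apply R0 twice to `rel18 18`, `rel18 13`, `rel18 12`;
commutation from `x_commute_x`, `x_commute_xn`, ... with `orth_18_13` etc.) -/
theorem rel_a {K : Type*} [Field K] (f : K ≃+* K) : Rel (xa f) (ya f) :=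
  rel_prod _ _ _ _ ((f : K →+* K).comp (f : K →+* K)) (RE_rel2 f) RE_rel12
    (RE_c1 f) (RE_c2 f) (RE_c3 f) (RE_c4 f)

/-- `w_a(t) = n_{p₁}(t) n_{p₃}(f t) n_{p₄}(f² t)` -/
theorem RE_w_a {K : Type*} [Field K] (f : K ≃+* K) (t : K) :
    w (xa f) (ya f) t = nG chevD4 K 18 t * nG chevD4 K 13 (f t) * nG chevD4 K 12 (f (f t)) := by
  have e1 := RE_w_prod (fun t => xGL chevD4 K 18 t * xGL chevD4 K 13 ((f : K →+* K) t))
    (fun t => xGL chevD4 K 5 t * xGL chevD4 K 10 ((f : K →+* K) t)) (xGL chevD4 K 12) (xGL chevD4 K 11)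
    ((f : K →+* K).comp (f : K →+* K)) (RE_c1 f) (RE_c2 f) (RE_c3 f) t
  have e2 := RE_w_prod (xGL chevD4 K 18) (xGL chevD4 K 5) (xGL chevD4 K 13) (xGL chevD4 K 10) (f : K →+* K)
    (fun s t => x_commute_x chevD4 memD4 18 13 orth_18_13 s t)
    (fun s t => x_commute_xn chevD4 memD4 18 13 orth_18_13 s t)
    (fun s t => xn_commute_x chevD4 memD4 18 13 orth_18_13 s t) t
  rw [← RE_w_eq_nG, ← RE_w_eq_nG, ← RE_w_eq_nG, RE_neg18, RE_neg13, RE_neg12]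
  exact e1.trans (congrArg (· * _) e2)

/-- PIECE R2: `s_a = x_a(1) x_{-a}(-1) x_a(1)` (`nN_val`, `nG_eq`, `nprod3`; compare `repGenD4_mem`) -/
theorem sTw0_eq {K : Type*} [Field K] [Fintype K] {q : ℕ} (f : K ≃+* K) (hf : ∀ t, f t = t ^ q) :
    ((sTw f hf 0 : ↥(twistedD4 K q)) : GL chevD4.Idx K) = w (xa f) (ya f) 1 := by
  rw [RE_w_a, map_one, map_one]
  show ((repGenD4 K 0 : ↥(chevD4.monomialSubgroup K)) : GL chevD4.Idx K) = _
  have : repGenD4 K 0 = nN chevD4 K 18 * nN chevD4 K 13 * nN chevD4 K 12 := by simp [repGenD4]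
  rw [this, Subgroup.coe_mul, Subgroup.coe_mul, nN_val chevD4 memD4 18 (by decide),
    nN_val chevD4 memD4 13 (by decide), nN_val chevD4 memD4 12 (by decide)]
  rfl

/-- PIECE R3: `s_b = x_b(1) x_{-b}(-1) x_b(1)` -/
theorem sTw1_eq {K : Type*} [Field K] [Fintype K] {q : ℕ} (f : K ≃+* K) (hf : ∀ t, f t = t ^ q) :
    ((sTw f hf 1 : ↥(twistedD4 K q)) : GL chevD4.Idx K) = w (xGL chevD4 K 14) (xGL chevD4 K 9) 1 := by
  rw [← RE_neg14, RE_w_eq_nG]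
  show ((repGenD4 K 1 : ↥(chevD4.monomialSubgroup K)) : GL chevD4.Idx K) = _
  have : repGenD4 K 1 = nN chevD4 K 14 := by simp [repGenD4]
  rw [this, nN_val chevD4 memD4 14 (by decide)]
  rfl

/-- PIECE R4: `h_a(t) = h_{p₁}(t) h_{p₃}(f t) h_{p₄}(f² t)` (`hprod3`, `nprod3`) -/
theorem h_a_eq {K : Type*} [Field K] (f : K ≃+* K) (t : K) (ht : t ≠ 0) :
    h (xa f) (ya f) t = hG chevD4 K 18 t * hG chevD4 K 13 (f t) * hG chevD4 K 12 (f (f t)) := by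
  have e1 := RE_h_prod (fun t => xGL chevD4 K 18 t * xGL chevD4 K 13 ((f : K →+* K) t))
    (fun t => xGL chevD4 K 5 t * xGL chevD4 K 10 ((f : K →+* K) t)) (xGL chevD4 K 12) (xGL chevD4 K 11)
    ((f : K →+* K).comp (f : K →+* K)) (RE_c1 f) (RE_c2 f) (RE_c3 f) (RE_c4 f) t
  have e2 := RE_h_prod (xGL chevD4 K 18) (xGL chevD4 K 5) (xGL chevD4 K 13) (xGL chevD4 K 10) (f : K →+* K)
    (fun s t => x_commute_x chevD4 memD4 18 13 orth_18_13 s t)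
    (fun s t => x_commute_xn chevD4 memD4 18 13 orth_18_13 s t)
    (fun s t => xn_commute_x chevD4 memD4 18 13 orth_18_13 s t)
    (fun s t => xn_commute_xn chevD4 memD4 18 13 orth_18_13 s t) t
  rw [← RE_h_eq_hG 18 (by decide), ← RE_h_eq_hG 13 (by decide), ← RE_h_eq_hG 12 (by decide),
    RE_neg18, RE_neg13, RE_neg12]
  exact e1.trans (congrArg (· * _) e2)

/-- PIECE R5: `h_b(t) = h_{p₂}(t)` -/
theorem h_b_eq {K : Type*} [Field K] (t : K) (ht : t ≠ 0) :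
    h (xGL chevD4 K 14) (xGL chevD4 K 9) t = hG chevD4 K 14 t := by
  rw [← RE_neg14]
  exact RE_h_eq_hG 14 (by decide) t

end Cfsg.Agent.Helper18.Tw
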