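import Cfsg.Agent.Helper18.Tw.D4Sub
import Cfsg.Agent.S1067
import Cfsg.Agent.S1088

/-!
Helper18 / twisted D4 automorphisms, PIECE A (Sylow).
-/

set_option autoImplicit false
set_option maxRecDepth 100000

namespace Cfsg.Agent.Helper18.Tw

open Cfsg Cfsg.Lie Cfsg.Agent.Helper18 Cfsg.Agent.Helper18.Aut Cfsg.Agent.Helper19.Twist
  Cfsg.Agent.Helper19.Poinc Cfsg.Agent.Helper19.Cox Cfsg.Agent.S1081 Cfsg.Agent.Helper6
  Cfsg.Agent.Helper40.SL2Hom

/-- `q` is a power of the characteristic. -/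
private theorem SY_q_pow {K : Type*} [Field K] [Fintype K] {q : ℕ} (p : ℕ) [Fact p.Prime] [CharP K p]
    (hq : IsPrimePow q) (hK : Fintype.card K = q ^ 3) : ∃ n : ℕ, q = p ^ n := by
  obtain ⟨r, k, hr, hk, rfl⟩ := hq
  have hr' : r.Prime := Nat.prime_iff.mpr hr
  obtain ⟨⟨m, hm0⟩, -, hm⟩ := FiniteField.card K p
  rw [hK] at hm
  have hdvd : r ∣ p ^ m := by
    have : (r ^ k) ^ 3 = p ^ m := hm
    rw [← this, ← pow_mul]
    exact dvd_pow_self r (by positivity)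
  have : r = p := (Nat.prime_dvd_prime_iff_eq hr' (Fact.out : p.Prime)).mp (hr'.dvd_of_dvd_pow hdvd)
  exact ⟨k, by rw [this]⟩

private theorem SY_not_dvd {q p n : ℕ} (hp : p.Prime) (hn : 0 < n) (hqn : q = p ^ n) :
    ¬ p ∣ (q ^ 2 - 1) * (q ^ 6 - 1) * (q ^ 8 + q ^ 4 + 1) := by
  have hpq : p ∣ q := by rw [hqn]; exact dvd_pow_self p hn.ne'
  have hq1 : 1 ≤ q := by rw [hqn]; exact Nat.one_le_pow _ _ hp.pos
  have h1 : ∀ k, 0 < k → ¬ p ∣ q ^ k - 1 := by
    intro k hk hd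
    have h2 : p ∣ q ^ k := dvd_trans hpq (dvd_pow_self q hk.ne')
    have h3 : 1 ≤ q ^ k := Nat.one_le_pow _ _ hq1
    have : p ∣ q ^ k - (q ^ k - 1) := Nat.dvd_sub h2 hd
    rw [Nat.sub_sub_self h3] at this
    exact hp.one_lt.ne' (Nat.dvd_one.mp this)
  have h2 : ¬ p ∣ q ^ 8 + q ^ 4 + 1 := by
    intro hd
    have h3 : p ∣ q ^ 8 + q ^ 4 := dvd_add (dvd_trans hpq (dvd_pow_self q (by norm_num)))
      (dvd_trans hpq (dvd_pow_self q (by norm_num)))
    have : p ∣ 1 := (Nat.dvd_add_right h3).mp hd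
    exact hp.one_lt.ne' (Nat.dvd_one.mp this)
  intro hd
  rcases (hp.dvd_mul).mp hd with hd | hd
  · rcases (hp.dvd_mul).mp hd with hd | hd
    · exact h1 2 (by norm_num) hd
    · exact h1 6 (by norm_num) hd
  · exact h2 hd

/-- PIECE A: `U¹` is a Sylow `p`-subgroup of `G¹ = ³D₄(q)`.
Hint: `|G¹|` is S1067, `|U¹| = q^12` is S1088; `q` is a power of `p` (from `hq`, `hK`, `CharP K p`);
`Sylow.ofCard` or `Sylow` from `IsPGroup` + index coprime to `p`. -/
theorem sylow_D4 {K : Type*} [Field K] [Fintype K] {q : ℕ} (p : ℕ) [Fact p.Prime] [CharP K p]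
    (hq : IsPrimePow q) (hK : Fintype.card K = q ^ 3) :
    ∃ Q : Sylow p ↥(twistedD4 K q), (Q : Subgroup ↥(twistedD4 K q)) = U1 K q := by
  obtain ⟨n, hqn⟩ := SY_q_pow p hq hK
  have hn : 0 < n := by
    rcases Nat.eq_zero_or_pos n with h | h
    · exfalso
      rw [h, pow_zero] at hqn
      have := hq.two_le
      omega
    · exact h
  have hG := Cfsg.Agent.S1067.result hq hK
  have hU : Nat.card ↥(U1 K q) = q ^ 12 := by
    rw [← Cfsg.Agent.S1088.result hq hK]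
    unfold U1
    rw [← Subgroup.inf_subgroupOf_right]
    exact Nat.card_congr (Subgroup.subgroupOfEquivOfLe inf_le_right).toEquiv
  have hPG : IsPGroup p ↥(U1 K q) := by
    apply IsPGroup.of_card (n := n * 12)
    rw [hU, hqn, pow_mul]
  have hidx : ¬ p ∣ (U1 K q).index := by
    have h1 := (U1 K q).card_mul_index
    rw [hU, hG] at h1
    have hq0 : 0 < q ^ 12 := by
      have := hq.two_le
      positivity
    have h2 : (U1 K q).index = (q ^ 2 - 1) * (q ^ 6 - 1) * (q ^ 8 + q ^ 4 + 1) := by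
      apply Nat.eq_of_mul_eq_mul_left hq0
      rw [h1]; ring
    rw [h2]
    exact SY_not_dvd (Fact.out : p.Prime) hn hqn
  exact ⟨hPG.toSylow hidx, rfl⟩

end Cfsg.Agent.Helper18.Tw
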